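import Cfsg.Agent.Lib.PronormalPSL.Reduce
import Cfsg.Agent.Lib.Fusion.PSLBorel
import Cfsg.Agent.Lib.Blocks.SLMatrix

/-!
In characteristic two every subgroup of `SL_n` over the upper unitriangular group is normalised by
the normalizer of that group.
-/

set_option autoImplicit false
set_option linter.unusedSectionVars false

namespace Cfsg.Agent.Lib.PronormalPSL.Even

open Matrix
open Cfsg.Agent.Lib.Classical Cfsg.Agent.Lib.Classical.AutPSL
open Cfsg.Agent.Lib.Fusion.PSLBorel Cfsg.Agent.Lib.Blocks.SLMat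
open Cfsg.Agent.Lib.PGroups.Pronormal

variable {n : ℕ} {F : Type*} [Field F] [Fintype F]

local notation "SLn" => Matrix.SpecialLinearGroup (Fin n) F
local notation "Mat" => Matrix (Fin n) (Fin n) F

/-- The root group `(i, j)` lies in `H`. -/
def Rel (H : Subgroup SLn) (i j : Fin n) : Prop := ∀ (h : i ≠ j) (c : F), et i j h c ∈ H

theorem et_comm {a b c : Fin n} (hab : a ≠ b) (hbc : b ≠ c) (hac : a ≠ c) (x y : F) :
    et a b hab x * et b c hbc y * et a b hab (-x) * et b c hbc (-y) = et a c hac (x * y) := by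
  refine sl_ext ?_
  simp only [Matrix.SpecialLinearGroup.coe_mul, et_coe, Matrix.add_mul, Matrix.mul_add, Matrix.one_mul,
    Matrix.mul_one]
  simp [Matrix.single_mul_single_of_ne, hab.symm, hbc.symm, hac.symm, ← Matrix.single_add, Matrix.single_neg,
    Matrix.mul_neg, Matrix.neg_mul]
  ext r s
  simp [Matrix.single_apply]
  split_ifs <;> ring

variable (H : Subgroup (Matrix.SpecialLinearGroup (Fin n) F))

theorem rel_trans {i j k : Fin n} (h1 : Rel H i j) (h2 : Rel H j k) : Rel H i k := by
  intro hik c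
  by_cases hij : i = j
  · subst hij; exact h2 hik c
  by_cases hjk : j = k
  · subst hjk; exact h1 hik c
  rw [← mul_one c, ← et_comm hij hjk hik]
  exact H.mul_mem (H.mul_mem (H.mul_mem (h1 _ _) (h2 _ _)) (h1 _ _)) (h2 _ _)

variable {H} (hU : upperUni n F ≤ H)
include hU

theorem rel_of_le {i j : Fin n} (h : i ≤ j) : Rel H i j := fun hne c =>
  hU (et_mem_upperUni (lt_of_le_of_ne h hne) c)

omit hU in
theorem rel_map {m : SLn} (hm : m ∈ H) {w : Equiv.Perm (Fin n)} {c : Fin n → F} (hw : IsMono w c m)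
    {i j : Fin n} (h : Rel H i j) : Rel H (w i) (w j) := by
  intro hne t
  have hij : i ≠ j := fun e => hne (congrArg w e)
  have e := hw.conj_et hij hne (c j / c i * t)
  rw [← mul_assoc, div_mul_div_cancel₀ (hw.ne_zero j), div_self (hw.ne_zero i), one_mul] at e
  rw [eq_mul_inv_of_mul_eq e.symm]
  exact H.mul_mem (H.mul_mem hm (h hij _)) (H.inv_mem hm)

/-- The number of indices below `i`. -/
noncomputable def rk (H : Subgroup SLn) (i : Fin n) : ℕ :=
  letI := Classical.decPred fun k => Rel H k i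
  (Finset.univ.filter fun k => Rel H k i).card

theorem rel_of_rk_eq {i j : Fin n} (h : rk H i = rk H j) : Rel H i j ∧ Rel H j i := by
  classical
  have key : ∀ {a b : Fin n}, Rel H a b → rk H a = rk H b → Rel H b a := by
    intro a b hab e
    have hsub : (Finset.univ.filter fun k => Rel H k a) ⊆ Finset.univ.filter fun k => Rel H k b := by
      intro k hk
      simp only [Finset.mem_filter, Finset.mem_univ, true_and] at hk ⊢
      exact rel_trans H hk hab
    have heq := Finset.eq_of_subset_of_card_le hsub e.ge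
    have : b ∈ Finset.univ.filter fun k => Rel H k b := by
      simp only [Finset.mem_filter, Finset.mem_univ, true_and]
      exact rel_of_le hU le_rfl
    rw [← heq] at this
    simpa using this
  rcases le_total i j with hij | hij
  · exact ⟨rel_of_le hU hij, key (rel_of_le hU hij) h⟩
  · exact ⟨key (rel_of_le hU hij) h.symm, rel_of_le hU hij⟩

theorem rk_map {m : SLn} (hm : m ∈ H) {w : Equiv.Perm (Fin n)} {c : Fin n → F} (hw : IsMono w c m)
    (i : Fin n) : rk H (w i) = rk H i := by
  classical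
  have hle : ∀ k ∈ (Finset.univ : Finset (Fin n)), rk H k ≤ rk H (w k) := fun k _ =>
    Finset.card_le_card_of_injOn w (fun a ha => by
      simp only [Finset.coe_filter, Finset.mem_univ, true_and, Set.mem_setOf_eq] at ha ⊢
      exact rel_map hm hw ha) w.injective.injOn
  exact ((Finset.sum_eq_sum_iff_of_le hle).mp (Equiv.sum_comp w fun k => rk H k).symm i (Finset.mem_univ i)).symm

theorem emb_h2_mem {i j : Fin n} (hij : i ≠ j) (hr : Rel H i j) (hl : Rel H j i) (a : Fˣ) :
    emb i j hij (Blocks.SLMat.h2 a) ∈ H := by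
  set K := H.comap (emb (F := F) i j hij) with hK
  have hx : ∀ t : F, x2 t ∈ K := fun t => by
    show emb i j hij (x2 t) ∈ H
    rw [emb_x2]; exact hr _ _
  have hy : ∀ t : F, y2 t ∈ K := fun t => by
    show emb i j hij (y2 t) ∈ H
    rw [emb_y2]; exact hl _ _
  have hwh : ∀ t : Fˣ, (w2 : SpecialLinearGroup (Fin 2) F) * Blocks.SLMat.h2 t ∈ K := fun t => by
    have e := y2_eq t
    rw [← mul_assoc (w2 : SpecialLinearGroup (Fin 2) F), ← mul_assoc] at e
    have e' : (w2 : SpecialLinearGroup (Fin 2) F) * Blocks.SLMat.h2 t =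
        (x2 (-(↑t⁻¹ : F)))⁻¹ * y2 (-(t : F)) * (x2 (-(↑t⁻¹ : F)))⁻¹ := by
      rw [e]; group
    rw [e']
    exact K.mul_mem (K.mul_mem (K.inv_mem (hx _)) (hy _)) (K.inv_mem (hx _))
  have h1 : Blocks.SLMat.h2 (1 : Fˣ) = (1 : SpecialLinearGroup (Fin 2) F) := by
    have := Blocks.SLMat.h2_mul (1 : Fˣ) (1 : Fˣ)
    rw [mul_one] at this
    exact mul_eq_left.mp this.symm
  have hw0 : (w2 : SpecialLinearGroup (Fin 2) F) ∈ K := by
    have := hwh 1
    rwa [h1, mul_one] at this
  have := K.mul_mem (K.inv_mem hw0) (hwh a)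
  rwa [inv_mul_cancel_left] at this

omit hU in
theorem dgSL_ext {d d' : Fin n → Fˣ} (h : ∏ k, d k = 1) (h' : ∏ k, d' k = 1) (e : d = d') :
    dgSL d h = dgSL d' h' := by subst e; rfl

omit hU in
theorem dgSL_mul {d d' : Fin n → Fˣ} (h : ∏ k, d k = 1) (h' : ∏ k, d' k = 1) (hh : ∏ k, (d * d') k = 1) :
    dgSL (d * d') hh = dgSL d h * dgSL d' h' := by
  refine sl_ext ?_
  rw [Matrix.SpecialLinearGroup.coe_mul, dgSL_coe, dgSL_coe, dgSL_coe, Matrix.diagonal_mul_diagonal]
  simp

/-- A diagonal element times its inverse twisted by a permutation keeping the ranks. -/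
theorem twist_mem : ∀ (N : ℕ) (w : Equiv.Perm (Fin n)), w.support.card ≤ N → (∀ i, rk H (w i) = rk H i) →
    ∀ (d : Fin n → Fˣ) (h : ∏ k, (d (w k) / d k) = 1), dgSL (fun k => d (w k) / d k) h ∈ H := by
  classical
  intro N
  induction N with
  | zero =>
    intro w hw _ d h
    have e : w = 1 := Equiv.Perm.support_eq_empty_iff.mp (Finset.card_eq_zero.mp (Nat.le_zero.mp hw))
    subst e
    convert H.one_mem
    refine sl_ext ?_
    rw [dgSL_coe]
    simp
  | succ N ih =>
    intro w hw hr d h
    by_cases hN : w.support.card ≤ N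
    · exact ih w hN hr d h
    obtain ⟨i, hi⟩ : w.support.Nonempty := Finset.card_pos.mp (by omega)
    rw [Equiv.Perm.mem_support] at hi
    set s := Equiv.swap i (w i) with hs
    set w' := s * w with hw'
    have hlt : w'.support.card < w.support.card := Equiv.Perm.card_support_swap_mul hi
    have hrs : ∀ k, rk H (s k) = rk H k := fun k => by
      rw [hs, Equiv.swap_apply_def]
      split_ifs with h1 h2
      · rw [h1, hr]
      · rw [h2, hr]
      · rfl
    have hr' : ∀ k, rk H (w' k) = rk H k := fun k => by rw [hw', Equiv.Perm.mul_apply, hrs, hr]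
    have hp' : ∏ k, (d (s (w' k)) / d (s k)) = 1 := by
      rw [Finset.prod_div_distrib, Equiv.prod_comp w' (fun k => d (s k)), div_self']
    have hps : ∏ k, (d (s k) / d k) = 1 := by
      rw [Finset.prod_div_distrib, Equiv.prod_comp s d, div_self']
    have hA := ih w' (by omega) hr' (fun k => d (s k)) hp'
    have hij : i ≠ w i := Ne.symm hi
    have hB : dgSL (fun k => d (s k) / d k) hps ∈ H := by
      obtain ⟨h1, h2⟩ := rel_of_rk_eq hU (hr i).symm
      convert emb_h2_mem hU hij h1 h2 (d (w i) / d i) using 1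
      refine sl_ext (Matrix.ext fun a b => ?_)
      rw [dgSL_coe, isMono_emb_h2 hij (d (w i) / d i) a b]
      by_cases hab : a = b
      · subst hab
        rw [Matrix.diagonal_apply_eq, Equiv.Perm.one_apply, if_pos rfl, hs, Equiv.swap_apply_def]
        split_ifs with e1 e2
        · subst e1; simp
        · subst e2; simp [hi]
        · simp [e1, e2]
      · rw [Matrix.diagonal_apply_ne _ hab, Equiv.Perm.one_apply, if_neg hab]
    have e : (fun k => d (w k) / d k) = (fun k => d (s (w' k)) / d (s k)) * fun k => d (s k) / d k := by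
      funext k
      simp only [Pi.mul_apply, hw', hs, Equiv.Perm.mul_apply, Equiv.swap_apply_self]
      rw [div_mul_div_cancel]
    rw [dgSL_ext h (by simp only [Pi.mul_apply, Finset.prod_mul_distrib, hp', hps, one_mul]) e,
      dgSL_mul hp' hps]
    exact H.mul_mem hA hB

theorem dg_conj_mem (d : Fin n → Fˣ) (hd : ∏ k, d k = 1) {h : SLn} (hh : h ∈ H) :
    dgSL d hd * h * (dgSL d hd)⁻¹ ∈ H := by
  obtain ⟨u, u', m, w, c, hu, hu', hw, rfl⟩ := exists_bruhat_SL h
  set t := dgSL d hd with ht
  have htd : t ∈ diagSub n F := ⟨fun k => (d k : F), fun i j => by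
    rw [ht, dgSL_coe, Equiv.Perm.one_apply, Matrix.diagonal_apply]
    split_ifs with e
    · rw [e]
    · rfl⟩
  have hm : m ∈ H := by
    have := H.mul_mem (H.mul_mem (H.inv_mem (hU hu)) hh) (H.inv_mem (hU hu'))
    rwa [show u⁻¹ * (u * m * u') * u'⁻¹ = m by group] at this
  have hp : ∏ k, (d (w k) / d k) = 1 := by
    rw [Finset.prod_div_distrib, Equiv.prod_comp w d, div_self']
  have hmid : t * m * t⁻¹ = m * dgSL (fun k => d (w k) / d k) hp := by
    rw [mul_inv_eq_iff_eq_mul, mul_assoc, ht, ← dgSL_mul hp hd (by simp [hd, Equiv.prod_comp w d]),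
      dgSL_ext _ (show ∏ k, d (w k) = 1 by rw [Equiv.prod_comp w d, hd])
        (funext fun k => by simp : (fun k => d (w k) / d k) * d = fun k => d (w k))]
    refine sl_ext (Matrix.ext fun a b => ?_)
    rw [Matrix.SpecialLinearGroup.coe_mul, Matrix.SpecialLinearGroup.coe_mul, dgSL_coe, dgSL_coe,
      Matrix.diagonal_mul, Matrix.mul_diagonal, hw a b]
    split_ifs with e
    · rw [e, mul_comm]
    · simp
  rw [show t * (u * m * u') * t⁻¹ = (t * u * t⁻¹) * (t * m * t⁻¹) * (t * u' * t⁻¹) by group, hmid]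
  exact H.mul_mem (H.mul_mem (hU (diag_normalizes' htd hu))
    (H.mul_mem hm (twist_mem hU _ w le_rfl (rk_map hU hm hw) d hp))) (hU (diag_normalizes' htd hu'))

/-- Elements normalizing the unitriangular group normalize its overgroups. -/
theorem cj_eq_self (p : ℕ) [Fact p.Prime] [CharP F p] {b : SLn}
    (hb : b ∈ Subgroup.normalizer ((upperUni n F : Subgroup SLn) : Set SLn)) : cj b H = H := by
  have hup := upper_of_normalizes p (n := n) (F := F) (s := b) (by
    rw [← cj_iff, ← map_cj, cj_iff.mpr hb])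
  have hd : ∀ i, (b : Mat) i i ≠ 0 := fun i h0 => Matrix.SpecialLinearGroup.det_ne_zero b
    (by rw [Matrix.det_of_isUpperTriangular (M := (b : Mat)) (fun a c h => hup c a h)]
        exact Finset.prod_eq_zero (Finset.mem_univ i) h0)
  obtain ⟨X, hX, e⟩ := exists_diag_uni (fun i j h => hup j i h) hd
  set d : Fin n → Fˣ := fun i => Units.mk0 _ (hd i)
  have hp : ∏ k, d k = 1 := by
    refine Units.ext ?_
    rw [Units.coe_prod, Units.val_one, ← b.2,
      Matrix.det_of_isUpperTriangular (M := (b : Mat)) (fun a c h => hup c a h)]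
    rfl
  obtain ⟨Xs, hXs⟩ : ∃ Xs : SLn, (Xs : Mat) = X := ⟨⟨X, hX.det⟩, rfl⟩
  have hb' : b = dgSL d hp * Xs := sl_ext (by
    rw [Matrix.SpecialLinearGroup.coe_mul, dgSL_coe, hXs]; exact e)
  rw [hb', cj_mul, cj_self (hU (mem_upperUni.mpr (hXs.symm ▸ hX : IsUni (Xs : Mat))))]
  refine Subgroup.eq_of_le_of_card_ge (fun x => ?_) ?_
  · rintro ⟨h, hh, rfl⟩
    exact dg_conj_mem hU d hp hh
  · exact (Nat.card_congr (Subgroup.equivMapOfInjective H _ (MulEquiv.injective _)).toEquiv).le

omit hU in
/-- In characteristic two all overgroups of Sylow 2-subgroups of `SL_n` are pronormal. -/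
theorem allPro_two (hn : 1 ≤ n) [CharP F 2] : AllPro 2 SLn := by
  haveI : Fact (Nat.Prime 2) := ⟨Nat.prime_two⟩
  refine allPro_of_normalizer ((isPGroup_upperUni (n := n) (F := F) 2).toSylow
    (not_dvd_index_upperUni 2 hn)) fun K hK b hb => ⟨1, one_mem _, ?_⟩
  rw [cj_one]
  exact cj_eq_self hK 2 hb

end Cfsg.Agent.Lib.PronormalPSL.Even
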