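import Cfsg.Agent.Lib.PronormalPSL.Two
import Cfsg.Agent.Lib.FusionControl.SquaresSL
import Cfsg.Agent.Lib.Classical.AutPSL.Elements

/-!
In a group `Γ ≤ GL₂` whose elements of determinant one form a copy of `SL₂(q)`, `q` odd, the normalizer
of a Sylow 2-subgroup is a 2-group modulo scalars, provided determinants have enough 2-part.
-/

set_option autoImplicit false
set_option linter.style.haveILetI false

namespace Cfsg.Agent.Lib.PronormalPSL.GLTwoNorm

open Matrix
open Cfsg.Agent.Lib.FusionControl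
open Cfsg.Agent.Lib.SL2Trace (toPSL toPSL_surjective toPSL_eq)
open Cfsg.Agent.Lib.Classical.AutPSL (dia conjSL conjSL_coe)

variable {F : Type*} [Field F] [Fintype F]

local notation "SL2" => Matrix.SpecialLinearGroup (Fin 2) F
local notation "GL2" => GL (Fin 2) F
local notation "M2" => Matrix (Fin 2) (Fin 2) F

omit [Fintype F] in
/-- The commutant of a non-scalar `2 × 2` matrix is commutative. -/
theorem commute_of_commute {M A B : M2} (hns : M 0 1 ≠ 0 ∨ M 1 0 ≠ 0 ∨ M 0 0 ≠ M 1 1) (hA : A * M = M * A)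
    (hB : B * M = M * B) : A * B = B * A := by
  have a1 := congrFun (congrFun hA 0) 0
  have a2 := congrFun (congrFun hA 0) 1
  have a3 := congrFun (congrFun hA 1) 0
  have b1 := congrFun (congrFun hB 0) 0
  have b2 := congrFun (congrFun hB 0) 1
  have b3 := congrFun (congrFun hB 1) 0
  simp only [Matrix.mul_apply, Fin.sum_univ_two] at a1 a2 a3 b1 b2 b3
  have k1 : A 0 1 * B 1 0 - A 1 0 * B 0 1 = 0 ∧
      A 0 1 * (B 1 1 - B 0 0) - B 0 1 * (A 1 1 - A 0 0) = 0 ∧
      A 1 0 * (B 1 1 - B 0 0) - B 1 0 * (A 1 1 - A 0 0) = 0 := by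
    rcases hns with h | h | h
    · have k1 : A 0 1 * B 1 0 - A 1 0 * B 0 1 = 0 := mul_left_cancel₀ h (by
        linear_combination -(A 0 1) * b1 + (B 0 1) * a1)
      have k2 : A 0 1 * (B 1 1 - B 0 0) - B 0 1 * (A 1 1 - A 0 0) = 0 := mul_left_cancel₀ h (by
        linear_combination -(A 0 1) * b2 + (B 0 1) * a2)
      exact ⟨k1, k2, mul_left_cancel₀ h (by
        linear_combination M 1 0 * k2 - (B 1 1 - B 0 0) * a1 + (A 1 1 - A 0 0) * b1)⟩
    · have k1 : A 0 1 * B 1 0 - A 1 0 * B 0 1 = 0 := mul_left_cancel₀ h (by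
        linear_combination (B 1 0) * a1 - (A 1 0) * b1)
      have k3 : A 1 0 * (B 1 1 - B 0 0) - B 1 0 * (A 1 1 - A 0 0) = 0 := mul_left_cancel₀ h (by
        linear_combination (A 1 0) * b3 - (B 1 0) * a3)
      exact ⟨k1, mul_left_cancel₀ h (by
        linear_combination M 0 1 * k3 + (B 1 1 - B 0 0) * a1 - (A 1 1 - A 0 0) * b1), k3⟩
    · have h' : M 1 1 - M 0 0 ≠ 0 := sub_ne_zero.mpr (Ne.symm h)
      have k2 : A 0 1 * (B 1 1 - B 0 0) - B 0 1 * (A 1 1 - A 0 0) = 0 := mul_left_cancel₀ h' (by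
        linear_combination (B 1 1 - B 0 0) * a2 - (A 1 1 - A 0 0) * b2)
      have k3 : A 1 0 * (B 1 1 - B 0 0) - B 1 0 * (A 1 1 - A 0 0) = 0 := mul_left_cancel₀ h' (by
        linear_combination -(B 1 1 - B 0 0) * a3 + (A 1 1 - A 0 0) * b3)
      exact ⟨mul_left_cancel₀ h' (by
        linear_combination -(M 0 1) * k3 + (B 1 0) * a2 - (A 1 0) * b2), k2, k3⟩
  obtain ⟨k1, k2, k3⟩ := k1
  ext i j
  fin_cases i <;> fin_cases j <;> simp [Matrix.mul_apply, Fin.sum_univ_two]
  · linear_combination k1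
  · linear_combination k2
  · linear_combination -k3
  · linear_combination -k1


omit [Fintype F] in
/-- The scalar units. -/
def sc : Fˣ →* GL2 := Units.map (Matrix.scalar (Fin 2)).toMonoidHom

omit [Fintype F] in
theorem sc_comm (μ : Fˣ) (g : GL2) : Commute (sc μ) g :=
  Units.ext (by
    show Matrix.scalar (Fin 2) (μ : F) * (g : M2) = (g : M2) * Matrix.scalar (Fin 2) (μ : F)
    exact (Matrix.scalar_commute (μ : F) (fun r => mul_comm _ r) (g : M2)).eq)

omit [Fintype F] in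
theorem det_sc (μ : Fˣ) : GeneralLinearGroup.det (sc μ : GL2) = μ * μ := Units.ext (by
  rw [GeneralLinearGroup.val_det_apply]
  show (Matrix.scalar (Fin 2) (μ : F)).det = _
  rw [Matrix.scalar_apply, Matrix.det_diagonal, Fin.prod_univ_two, Units.val_mul])

omit [Fintype F] in
/-- An element of determinant one and order two is `-1`. -/
theorem eq_neg_one {g : GL2} (h2 : (2 : F) ≠ 0) (hd : GeneralLinearGroup.det g = 1) (hsq : g * g = 1) (h1 : g ≠ 1) :
    g = -1 := by
  obtain ⟨u, hu⟩ := (Classical.range_toGL_eq_ker_det (F := F) (n := Fin 2)).ge hd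
  have hu2 : u * u = 1 := SpecialLinearGroup.toGL_injective (by rw [map_mul, hu, hsq, map_one])
  have hadj : ((u⁻¹ : SL2) : M2) = (u : M2) := congrArg Subtype.val (inv_eq_of_mul_eq_one_right hu2)
  replace hadj : Matrix.adjugate (u : M2) = (u : M2) := hadj
  rw [Matrix.adjugate_fin_two] at hadj
  have q00 := congrFun (congrFun hadj 0) 0
  have q01 := congrFun (congrFun hadj 0) 1
  have q10 := congrFun (congrFun hadj 1) 0
  simp at q00 q01 q10
  have z01 : (u : M2) 0 1 = 0 := mul_left_cancel₀ h2 (by linear_combination -q01)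
  have z10 : (u : M2) 1 0 = 0 := mul_left_cancel₀ h2 (by linear_combination -q10)
  rcases SL2Trace.eq_scalar_of_entries z10 z01 q00.symm with e | e
  · exact absurd (by rw [← hu, e, map_one]) h1
  · rw [← hu, e]; exact Units.ext (by simp [SpecialLinearGroup.toGL])

omit [Fintype F] in
/-- A non-square of 2-power order in a group of units containing `-1`. -/
theorem exists_nonsquare [Finite F] (h2 : (2 : F) ≠ 0) (C : Subgroup Fˣ) (hC : (-1 : Fˣ) ∈ C) :
    ∃ ν ∈ C, (∃ v, ν ^ 2 ^ v = 1) ∧ ∀ μ ∈ C, ν ≠ μ * μ := by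
  have hne : (⟨-1, hC⟩ : C) ≠ 1 := fun h => by
    have h' : (-1 : F) = 1 := congrArg (fun x : C => ((x : Fˣ) : F)) h
    exact h2 (by linear_combination -h')
  have hns : ¬ Function.Surjective (fun x : C => x * x) := fun h => by
    refine hne (Finite.injective_iff_surjective.mpr h ?_)
    show (⟨-1, hC⟩ : C) * ⟨-1, hC⟩ = 1 * 1
    exact Subtype.ext (by simp)
  simp only [Function.Surjective, not_forall, not_exists] at hns
  obtain ⟨η, hη⟩ := hns
  obtain ⟨v, o, hodd, hvo⟩ := Nat.exists_eq_pow_mul_and_not_dvd (n := Nat.card C) Nat.card_pos.ne' 2 (by norm_num)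
  refine ⟨((η ^ o : C) : Fˣ), (η ^ o).2, ⟨v, ?_⟩, fun μ hμ h => ?_⟩
  · rw [← Subgroup.coe_pow, ← pow_mul, mul_comm, ← hvo, pow_card_eq_one', Subgroup.coe_one]
  · obtain ⟨t, ht⟩ : Odd o := Nat.not_even_iff_odd.mp fun h => hodd (even_iff_two_dvd.mp h)
    refine hη (⟨μ, hμ⟩ * (η ^ t)⁻¹) ?_
    have h' : η ^ o = ⟨μ, hμ⟩ * ⟨μ, hμ⟩ := Subtype.ext h
    rw [mul_mul_mul_comm, ← h', ht, pow_succ, two_mul, pow_add]
    group

/-- The preimage of a Sylow subgroup under an injection with normal image is a Sylow subgroup. -/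
theorem exists_sylow_comap_normal {A B : Type*} [Group A] [Group B] [Finite B] (f : A →* B)
    (hf : Function.Injective f) [f.range.Normal] (R : Sylow 2 B) :
    ∃ T : Sylow 2 A, (T : Subgroup A) = (R : Subgroup B).comap f := by
  haveI : Fact (Nat.Prime 2) := ⟨Nat.prime_two⟩
  haveI : Finite A := Finite.of_injective _ hf
  obtain ⟨T, hT⟩ := (R.2.comap_of_injective f hf).exists_le_sylow
  refine ⟨T, ((Subgroup.eq_of_le_of_card_ge hT) ?_).symm⟩
  obtain ⟨R', hR'⟩ := (T.2.map f).exists_le_sylow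
  obtain ⟨c, hc⟩ := MulAction.exists_smul_eq B R R'
  have hcR : (R' : Subgroup B) = PGroups.Pronormal.cj c (R : Subgroup B) := by
    rw [← hc, Sylow.coe_subgroup_smul, Subgroup.pointwise_smul_def]; rfl
  have hTa : ∀ a : (T : Subgroup A), ∃ a' ∈ (R : Subgroup B).comap f, f a = c * f a' * c⁻¹ := by
    intro a
    have h := hR' ⟨a, a.2, rfl⟩
    rw [hcR] at h
    obtain ⟨r, hr, e⟩ := h
    have hrr : r ∈ f.range := by
      have h' : c⁻¹ * f a * (c⁻¹)⁻¹ ∈ f.range := ‹f.range.Normal›.conj_mem _ ⟨a, rfl⟩ c⁻¹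
      rwa [← e, show c⁻¹ * (MulAut.conj c).toMonoidHom r * (c⁻¹)⁻¹ = r by simp [mul_assoc]] at h'
    obtain ⟨a', ha'⟩ := hrr
    exact ⟨a', (ha' ▸ hr : f a' ∈ (R : Subgroup B)), by rw [ha', ← e]; rfl⟩
  choose φ hφ hφe using hTa
  exact Nat.card_le_card_of_injective (fun a => (⟨φ a, hφ a⟩ : (R : Subgroup B).comap f)) fun a a' h => by
    have h' : φ a = φ a' := congrArg Subtype.val h
    exact Subtype.ext (hf (by rw [hφe a, hφe a', h']))

section General

variable {K : Type*} [Field K] [Fintype K] (hK : Odd (Fintype.card K)) (h2 : (2 : F) ≠ 0)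
variable (Γ : Subgroup (GL (Fin 2) F)) (ι : Matrix.SpecialLinearGroup (Fin 2) K →* GL (Fin 2) F)
variable (hι : Function.Injective ι)
  (hrange : ι.range = Γ ⊓ (GeneralLinearGroup.det : GL (Fin 2) F →* Fˣ).ker)
  (R : Sylow 2 Γ)

local notation "SK" => Matrix.SpecialLinearGroup (Fin 2) K

include hι hrange in
theorem exists_comap :
    ∃ T : Sylow 2 SK, ∀ u : SK, u ∈ (T : Subgroup SK) ↔ ι u ∈ (R : Subgroup Γ).map Γ.subtype := by
  haveI : Fact (Nat.Prime 2) := ⟨Nat.prime_two⟩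
  have hle : ∀ u, ι u ∈ Γ := fun u => (hrange.le ⟨u, rfl⟩).1
  let f : SK →* Γ := ι.codRestrict Γ hle
  have hf : Function.Injective f := fun a b h => hι (congrArg Subtype.val h)
  have hfr : f.range = (GeneralLinearGroup.det.comp Γ.subtype).ker := by
    ext x
    constructor
    · rintro ⟨u, rfl⟩; exact (hrange.le ⟨u, rfl⟩).2
    · intro hx
      obtain ⟨u, hu⟩ := hrange.ge ⟨x.2, hx⟩
      exact ⟨u, Subtype.ext hu⟩
  haveI : f.range.Normal := hfr ▸ MonoidHom.normal_ker _
  obtain ⟨T, hT⟩ := exists_sylow_comap_normal f hf R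
  refine ⟨T, fun u => ?_⟩
  rw [hT]
  exact ⟨fun h => ⟨f u, h, rfl⟩, fun ⟨x, hx, e⟩ => show f u ∈ (R : Subgroup Γ) by
    rwa [show f u = x from Subtype.ext e.symm]⟩

include h2 hι in
theorem map_neg_one : ι.range ≤ (GeneralLinearGroup.det : GL (Fin 2) F →* Fˣ).ker → ∀ (h2' : (2 : K) ≠ 0),
    ι (-1) = -1 := by
  intro hle h2'
  refine eq_neg_one h2 (hle ⟨_, rfl⟩) (by rw [← map_mul, neg_mul_neg, one_mul, map_one]) fun h => h2' ?_
  have e := hι (h.trans (map_one ι).symm)
  have e' : (-1 : K) = 1 := by simpa using congrArg (fun u : SK => (u : Matrix (Fin 2) (Fin 2) K) 0 0) e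
  linear_combination -e'

include hK hι hrange in
theorem exists_noncommute :
    ∃ a b : SK, ι a ∈ (R : Subgroup Γ).map Γ.subtype ∧ ι b ∈ (R : Subgroup Γ).map Γ.subtype ∧ a * b ≠ b * a := by
  obtain ⟨T, hT⟩ := exists_comap Γ ι hι hrange R
  obtain ⟨k, hk, ⟨e⟩⟩ := Classical.sylow_two_SL2_quaternion (BlockDiag.odd_ne_two hK) T
  refine ⟨_, _, (hT _).mp (e.symm (QuaternionGroup.a 1)).2, (hT _).mp (e.symm (QuaternionGroup.xa 0)).2, fun h => ?_⟩
  have h' : e.symm (QuaternionGroup.a 1) * e.symm (QuaternionGroup.xa 0) =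
      e.symm (QuaternionGroup.xa 0) * e.symm (QuaternionGroup.a 1) := Subtype.ext h
  rw [← map_mul, ← map_mul] at h'
  have h'' := e.symm.injective h'
  simp only [QuaternionGroup.a_mul_xa, QuaternionGroup.xa_mul_a, zero_sub, zero_add,
    QuaternionGroup.xa.injEq] at h''
  haveI : NeZero (2 * 2 ^ k) := ⟨by positivity⟩
  have h2 : ((2 : ℕ) : ZMod (2 * 2 ^ k)) = 0 := by push_cast; linear_combination -h''
  rw [ZMod.natCast_eq_zero_iff] at h2
  have := Nat.le_of_dvd two_pos h2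
  have : 2 ≤ 2 ^ k := le_trans (by norm_num) (Nat.pow_le_pow_right two_pos hk)
  omega

variable (hsc : ∀ x ∈ Γ, sc (GeneralLinearGroup.det x)⁻¹ ∈ Γ)
  (hns : ∃ g ∈ Γ, (∃ v, g ^ 2 ^ v = 1) ∧ ∀ μ : Fˣ, sc μ ∈ Γ → GeneralLinearGroup.det g ≠ μ * μ)

include hns in
theorem exists_det_nonsquare :
    ∃ r ∈ (R : Subgroup Γ).map Γ.subtype, ∀ μ : Fˣ, sc μ ∈ Γ → GeneralLinearGroup.det r ≠ μ * μ := by
  haveI : Fact (Nat.Prime 2) := ⟨Nat.prime_two⟩
  obtain ⟨g, hg, ⟨v, hv⟩, hgns⟩ := hns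
  have hp : IsPGroup 2 (Subgroup.zpowers (⟨g, hg⟩ : Γ)) := by
    rintro ⟨_, k, rfl⟩
    refine ⟨v, Subtype.ext (Subtype.ext ?_)⟩
    show (g ^ k) ^ 2 ^ v = 1
    rw [← zpow_natCast, zpow_comm, zpow_natCast, hv, _root_.one_zpow]
  obtain ⟨R', hR'⟩ := hp.exists_le_sylow
  obtain ⟨c, hc⟩ := MulAction.exists_smul_eq Γ R R'
  have hgR : (⟨g, hg⟩ : Γ) ∈ ((c • R : Sylow 2 Γ) : Subgroup Γ) := hc ▸ hR' (Subgroup.mem_zpowers _)
  rw [Sylow.coe_subgroup_smul, Subgroup.pointwise_smul_def] at hgR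
  obtain ⟨r, hr, he⟩ := hgR
  refine ⟨r, ⟨r, hr, rfl⟩, fun μ hμ h => hgns μ hμ ?_⟩
  rw [← h]
  have e : g = (c : GL (Fin 2) F) * r * (c : GL (Fin 2) F)⁻¹ := congrArg Subtype.val he.symm
  rw [e, map_mul, map_mul, map_inv, mul_right_comm, mul_inv_cancel, one_mul]

include hK h2 hι hrange hsc hns in
set_option maxHeartbeats 800000 in
/-- An element of `Γ` normalizing a Sylow 2-subgroup has a 2-power which is scalar. -/
theorem exists_pow_scalar {x : GL (Fin 2) F} (hxΓ : x ∈ Γ)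
    (hx : x ∈ Subgroup.normalizer (((R : Subgroup Γ).map Γ.subtype : Subgroup (GL (Fin 2) F)) : Set (GL (Fin 2) F))) :
    ∃ (t : ℕ) (μ : Fˣ), x ^ 2 ^ t = sc μ := by
  classical
  haveI : Fact (Nat.Prime 2) := ⟨Nat.prime_two⟩
  have hodd : Fintype.card K % 2 = 1 := Nat.odd_iff.mp hK
  set Rs := (R : Subgroup Γ).map Γ.subtype with hRs
  have hRsΓ : Rs ≤ Γ := Subgroup.map_subtype_le _
  have hιd : ∀ u, GeneralLinearGroup.det (ι u) = 1 := fun u => (hrange.le ⟨u, rfl⟩).2
  have hιneg : ∀ u : SK, ι (-u) = -ι u := fun u => by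
    rw [← neg_one_mul, map_mul, map_neg_one h2 ι hι (hrange.le.trans inf_le_right) (BlockDiag.odd_ne_two hK),
      neg_one_mul]
  obtain ⟨T, hTm⟩ := exists_comap Γ ι hι hrange R
  set S : Sylow 2 (Matrix.ProjectiveSpecialLinearGroup (Fin 2) K) := T.mapSurjective toPSL_surjective with hS
  have hSm : ∀ u : SK, u ∈ (T : Subgroup SK) → toPSL u ∈ (S : Subgroup (Matrix.ProjectiveSpecialLinearGroup (Fin 2) K)) :=
    fun u hu => by rw [hS, Sylow.coe_mapSurjective]; exact ⟨u, hu, rfl⟩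
  set δ : Fˣ := (GeneralLinearGroup.det x)⁻¹ with hδ
  obtain ⟨y, hy⟩ : x * x * sc δ ∈ ι.range := by
    rw [hrange]
    refine ⟨Γ.mul_mem (Γ.mul_mem hxΓ hxΓ) (hsc x hxΓ), ?_⟩
    show GeneralLinearGroup.det (x * x * sc δ) = 1
    rw [map_mul, map_mul, det_sc, hδ]
    group
  have hyN : ι y ∈ Subgroup.normalizer (Rs : Set (GL (Fin 2) F)) := by
    rw [hy]
    refine mul_mem (mul_mem hx hx) (Subgroup.mem_normalizer_iff.mpr fun g => ?_)
    rw [(sc_comm δ g).eq, mul_inv_cancel_right]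
  have hyT : y ∈ Subgroup.normalizer ((T : Subgroup SK) : Set SK) := Subgroup.mem_normalizer_iff.mpr fun u => by
    rw [hTm, hTm, map_mul, map_mul, map_inv]
    exact Subgroup.mem_normalizer_iff.mp hyN _
  set b := toPSL y with hb
  have hbN : b ∈ Subgroup.normalizer ((S : Subgroup (Matrix.ProjectiveSpecialLinearGroup (Fin 2) K)) :
      Set (Matrix.ProjectiveSpecialLinearGroup (Fin 2) K)) := by
    rw [hS, Sylow.coe_mapSurjective]
    exact Subgroup.le_normalizer_map toPSL ⟨y, hyT, rfl⟩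
  by_cases hbS : b ∈ (S : Subgroup (Matrix.ProjectiveSpecialLinearGroup (Fin 2) K))
  · rw [hS, Sylow.coe_mapSurjective] at hbS
    obtain ⟨u, hu, hue⟩ := hbS
    have hy2 : y * y ∈ (T : Subgroup SK) := by
      rcases toPSL_eq.mp hue with h | h <;> rw [h]
      · exact mul_mem hu hu
      · rw [neg_mul_neg]; exact mul_mem hu hu
    obtain ⟨s, hs⟩ := (R.2.map Γ.subtype) ⟨_, (hTm _).mp hy2⟩
    refine ⟨2 + s, ((δ * δ) ^ 2 ^ s)⁻¹, ?_⟩
    have h1 : (ι (y * y)) ^ 2 ^ s = 1 := congrArg Subtype.val hs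
    have h2' : ι (y * y) = x ^ 4 * sc (δ * δ) := by
      rw [map_mul, hy, map_mul, mul_assoc (x * x), ← mul_assoc (sc δ), (sc_comm δ (x * x)).eq]
      simp only [pow_succ, pow_zero, one_mul, mul_assoc]
    rw [h2', ((sc_comm (δ * δ) (x ^ 4)).symm).mul_pow, ← pow_mul, ← map_pow, mul_eq_one_iff_eq_inv] at h1
    rw [pow_add, show 2 ^ 2 = 4 from rfl, h1, map_inv]
  exfalso
  obtain ⟨h4, hsq, hab, hfix⟩ := (Two.normalizer_cases hodd S).resolve_left fun h => hbS (h hbN)
  obtain ⟨r, hr, hrd⟩ := exists_det_nonsquare Γ R hns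
  -- conjugation by `r` on `SL₂(K)`
  have hexc : ∀ u : SK, ∃ w : SK, ι w = r * ι u * r⁻¹ := fun u => by
    have h : r * ι u * r⁻¹ ∈ ι.range := by
      rw [hrange]
      refine ⟨Γ.mul_mem (Γ.mul_mem (hRsΓ hr) (hrange.le ⟨u, rfl⟩).1) (Γ.inv_mem (hRsΓ hr)), ?_⟩
      show GeneralLinearGroup.det (r * ι u * r⁻¹) = 1
      rw [map_mul, map_mul, map_inv, hιd, mul_one, mul_inv_cancel]
    exact h
  choose cr hcj using hexc
  let crH : SK →* SK := MonoidHom.mk' cr fun u w => hι (by rw [map_mul, hcj, hcj, hcj, map_mul]; group)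
  have hcrb : Function.Bijective crH := Finite.injective_iff_bijective.mp fun u w h => by
    have h' : ι (cr u) = ι (cr w) := congrArg ι h
    rw [hcj, hcj] at h'
    exact hι (mul_left_cancel (mul_right_cancel h'))
  let crE : MulAut SK := MulEquiv.ofBijective crH hcrb
  set α : MulAut (Matrix.ProjectiveSpecialLinearGroup (Fin 2) K) := Classical.AutPSL.toAut crE with hα
  have hαp : ∀ u : SK, α (toPSL u) = toPSL (cr u) := fun u => rfl
  have hαS : ∀ s ∈ (S : Subgroup (Matrix.ProjectiveSpecialLinearGroup (Fin 2) K)),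
      α s ∈ (S : Subgroup (Matrix.ProjectiveSpecialLinearGroup (Fin 2) K)) := by
    intro s hs
    rw [hS, Sylow.coe_mapSurjective] at hs
    obtain ⟨u, hu, rfl⟩ := hs
    rw [hαp]
    refine hSm _ ((hTm _).mpr ?_)
    rw [hcj]
    exact mul_mem (mul_mem hr ((hTm u).mp hu)) (inv_mem hr)
  obtain ⟨s0, hs0, hαb⟩ : ∃ s0 ∈ (S : Subgroup (Matrix.ProjectiveSpecialLinearGroup (Fin 2) K)),
      α b = b * s0 := by
    refine ⟨toPSL (y⁻¹ * cr y), hSm _ ((hTm _).mpr ?_), by rw [hb, hαp, map_mul, map_inv, mul_inv_cancel_left]⟩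
    rw [map_mul, map_inv, hcj, ← mul_assoc, ← mul_assoc]
    exact mul_mem ((Subgroup.mem_normalizer_iff''.mp hyN r).mp hr) (inv_mem hr)
  have hcommS : ∀ s ∈ (S : Subgroup (Matrix.ProjectiveSpecialLinearGroup (Fin 2) K)),
      α (b * s * b⁻¹) = b * α s * b⁻¹ := by
    intro s hs
    rw [map_mul, map_mul, map_inv, hαb, _root_.mul_inv_rev, mul_assoc b s0, (hab s0 hs0 _ (hαS s hs)).eq]
    group
  have hbS' : ∀ s ∈ (S : Subgroup (Matrix.ProjectiveSpecialLinearGroup (Fin 2) K)),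
      b * s * b⁻¹ ∈ (S : Subgroup (Matrix.ProjectiveSpecialLinearGroup (Fin 2) K)) :=
    fun s hs => (Subgroup.mem_normalizer_iff.mp hbN s).mp hs
  obtain ⟨v, hv⟩ := (R.2.map Γ.subtype) ⟨r, hr⟩
  have hαv : α ^ 2 ^ v = 1 := by
    have hpow : ∀ (j : ℕ) (u : SK), ι ((crE ^ j) u) = r ^ j * ι u * (r ^ j)⁻¹ := by
      intro j
      induction j with
      | zero => simp
      | succ j ih =>
        intro u
        rw [pow_succ', MulAut.mul_apply, show crE ((crE ^ j) u) = cr ((crE ^ j) u) from rfl, hcj, ih, pow_succ']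
        group
    rw [hα, ← map_pow, show crE ^ 2 ^ v = 1 from MulEquiv.ext fun u => hι (by
      rw [hpow, show r ^ 2 ^ v = 1 from congrArg Subtype.val hv]; simp), map_one]
  have hfixα : ∀ a ∈ (S : Subgroup (Matrix.ProjectiveSpecialLinearGroup (Fin 2) K)), α a = a := by
    intro a ha
    by_cases ha1 : a = 1
    · rw [ha1, map_one]
    set β : Matrix.ProjectiveSpecialLinearGroup (Fin 2) K → Matrix.ProjectiveSpecialLinearGroup (Fin 2) K :=
      fun s => b * s * b⁻¹ with hβ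
    have hβinj : Function.Injective β := fun s t h => by simpa [hβ] using h
    have hne1 : ∀ s, s ≠ 1 → β s ≠ 1 := fun s hs h => hs (hβinj (h.trans (by simp [hβ])))
    set A : Finset (Matrix.ProjectiveSpecialLinearGroup (Fin 2) K) :=
      Finset.univ.filter fun s => s ∈ (S : Subgroup (Matrix.ProjectiveSpecialLinearGroup (Fin 2) K)) ∧ s ≠ 1 with hA
    have hAm : ∀ s, s ∈ A ↔ s ∈ (S : Subgroup (Matrix.ProjectiveSpecialLinearGroup (Fin 2) K)) ∧ s ≠ 1 := fun s => by
      simp [hA]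
    have hA3 : A.card = 3 := by
      have : A = (Finset.univ.filter fun s => s ∈ (S : Subgroup (Matrix.ProjectiveSpecialLinearGroup (Fin 2) K))).erase 1 := by
        ext s; simp [hA, and_comm]
      rw [this, Finset.card_erase_of_mem (by simp), ← Fintype.card_subtype, ← Nat.card_eq_fintype_card]
      rw [h4]
    have h1 : β a ≠ a := hfix b hbN hbS a ha ha1
    have hβa := hbS' a ha
    have h2 : β (β a) ≠ β a := hfix b hbN hbS _ hβa (hne1 a ha1)
    have h3 : β (β a) ≠ a := by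
      intro h
      have hsub : ({a, β a} : Finset _) ⊆ A := by
        simp [Finset.insert_subset_iff, hAm, ha, ha1, hne1 a ha1, show β a ∈ (S : Subgroup _) from hβa]
      obtain ⟨c, hcA, hc⟩ := Finset.exists_of_ssubset (Finset.ssubset_iff_subset_ne.mpr ⟨hsub, fun e => by
        rw [← e, Finset.card_pair (Ne.symm h1)] at hA3; omega⟩)
      obtain ⟨hcS, hc1⟩ := (hAm c).mp hcA
      simp only [Finset.mem_insert, Finset.mem_singleton, not_or] at hc
      have hcv : β c ∈ A := (hAm _).mpr ⟨hbS' c hcS, hne1 c hc1⟩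
      have hAeq : A = {a, β a, c} := (Finset.eq_of_subset_of_card_le (Finset.insert_subset ((hAm a).mpr ⟨ha, ha1⟩)
        (Finset.insert_subset ((hAm _).mpr ⟨hβa, hne1 a ha1⟩) (Finset.singleton_subset_iff.mpr hcA))) (by
        rw [hA3, Finset.card_insert_of_notMem (by simp only [Finset.mem_insert, Finset.mem_singleton, not_or]; exact ⟨Ne.symm h1, Ne.symm hc.1⟩),
          Finset.card_pair (Ne.symm hc.2)])).symm
      rw [hAeq] at hcv
      simp only [Finset.mem_insert, Finset.mem_singleton] at hcv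
      rcases hcv with e | e | e
      · exact hc.2 (hβinj (e.trans h.symm))
      · exact hc.1 (hβinj e)
      · exact hfix b hbN hbS c hcS hc1 e
    have hββ := hbS' _ hβa
    have hAeq : A = {a, β a, β (β a)} := (Finset.eq_of_subset_of_card_le (Finset.insert_subset ((hAm a).mpr ⟨ha, ha1⟩)
        (Finset.insert_subset ((hAm _).mpr ⟨hβa, hne1 a ha1⟩) (Finset.singleton_subset_iff.mpr
          ((hAm _).mpr ⟨hββ, hne1 _ (hne1 a ha1)⟩)))) (by
        rw [hA3, Finset.card_insert_of_notMem (by simp only [Finset.mem_insert, Finset.mem_singleton, not_or]; exact ⟨Ne.symm h1, Ne.symm h3⟩),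
          Finset.card_pair (Ne.symm h2)])).symm
    have hβ3 : β^[3] a = a := by
      have hm : β (β (β a)) ∈ A := (hAm _).mpr ⟨hbS' _ hββ, hne1 _ (hne1 _ (hne1 a ha1))⟩
      rw [hAeq] at hm
      simp only [Finset.mem_insert, Finset.mem_singleton] at hm
      rcases hm with e | e | e
      · exact e
      · exact absurd (hβinj e) h3
      · exact absurd (hβinj (hβinj e)) h1
    have hper : ∀ j, β^[j] a = β^[j % 3] a := by
      intro j
      conv_lhs => rw [← Nat.mod_add_div j 3, Function.iterate_add_apply, Function.iterate_mul,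
        Function.iterate_fixed hβ3]
    have hiterS : ∀ j, β^[j] a ∈ (S : Subgroup (Matrix.ProjectiveSpecialLinearGroup (Fin 2) K)) := by
      intro j
      induction j with
      | zero => exact ha
      | succ j ih => rw [Function.iterate_succ_apply']; exact hbS' _ ih
    have hαβ : ∀ j, α (β^[j] a) = β^[j] (α a) := by
      intro j
      induction j with
      | zero => rfl
      | succ j ih =>
        rw [Function.iterate_succ_apply', Function.iterate_succ_apply', ← ih]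
        exact hcommS _ (hiterS j)
    obtain ⟨j, hj3, hj⟩ : ∃ j < 3, α a = β^[j] a := by
      have hm : α a ∈ A := (hAm _).mpr ⟨hαS a ha, fun h => ha1 (α.map_eq_one_iff.mp h)⟩
      rw [hAeq] at hm
      simp only [Finset.mem_insert, Finset.mem_singleton] at hm
      rcases hm with e | e | e
      · exact ⟨0, by norm_num, e⟩
      · exact ⟨1, by norm_num, e⟩
      · exact ⟨2, by norm_num, e⟩
    have hpow : ∀ k, (α ^ k) a = β^[j * k] a := by
      intro k
      induction k with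
      | zero => rfl
      | succ k ih =>
        rw [pow_succ', MulAut.mul_apply, ih, hαβ, hj, ← Function.iterate_add_apply, mul_add, mul_one]
    have hfin := hpow (2 ^ v)
    rw [hαv, MulAut.one_apply, hper] at hfin
    have hjk : j * 2 ^ v % 3 < 3 := Nat.mod_lt _ (by norm_num)
    rcases Nat.eq_zero_or_pos (j * 2 ^ v % 3) with h0 | h0
    · have : 3 ∣ j := (Nat.Coprime.pow_right v (by norm_num : Nat.Coprime 3 2)).dvd_of_dvd_mul_right
        (Nat.dvd_of_mod_eq_zero h0)
      have : j = 0 := Nat.eq_zero_of_dvd_of_lt this hj3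
      rw [hj, this]; rfl
    · exfalso
      rcases (show j * 2 ^ v % 3 = 1 ∨ j * 2 ^ v % 3 = 2 by omega) with e | e <;> rw [e] at hfin
      · exact h1 hfin.symm
      · exact h3 hfin.symm
  -- so `r` fixes the quaternion generators up to sign
  obtain ⟨a, c, ha, hc, hac⟩ := exists_noncommute hK Γ ι hι hrange R
  have haT := (hTm a).mpr ha
  have hcT := (hTm c).mpr hc
  have hsign : ∀ u ∈ (T : Subgroup SK), r * ι u * r⁻¹ = ι u ∨ r * ι u * r⁻¹ = -ι u := fun u hu => by
    have := hfixα _ (hSm u hu)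
    rw [hαp] at this
    rcases toPSL_eq.mp this with h | h
    · left; rw [← hcj, ← h]
    · right
      refine (hcj u).symm.trans ?_
      conv_rhs => rw [h, hιneg, neg_neg]
  have hanti : ι c * ι a = -(ι a * ι c) := by
    have := hab _ (hSm a haT) _ (hSm c hcT)
    rcases toPSL_eq.mp ((map_mul toPSL a c).trans (this.eq.trans (map_mul toPSL c a).symm)) with h | h
    · exact absurd h.symm hac
    · rw [← map_mul, ← map_mul, ← hιneg, h]
  set A := ι a with hA
  set C := ι c with hC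
  have ncomm : A * C ≠ C * A := fun h => hac (hι (by rw [map_mul, map_mul]; exact h))
  suffices h : ∃ q, q ∈ ι.range ∧ (r * q) * A = A * (r * q) ∧ (r * q) * C = C * (r * q) by
    obtain ⟨q, hq, h1, h2'⟩ := h
    rw [hrange] at hq
    set M : GL (Fin 2) F := r * q with hM
    by_cases hns' : (M : M2) 0 1 ≠ 0 ∨ (M : M2) 1 0 ≠ 0 ∨ (M : M2) 0 0 ≠ (M : M2) 1 1
    · refine ncomm (Units.ext (commute_of_commute hns' ?_ ?_))
      · rw [← Units.val_mul, ← Units.val_mul, h1]
      · rw [← Units.val_mul, ← Units.val_mul, h2']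
    push Not at hns'
    obtain ⟨e1, e2, e3⟩ := hns'
    have hd : (GeneralLinearGroup.det M : F) = (M : M2) 0 0 * (M : M2) 0 0 := by
      rw [GeneralLinearGroup.val_det_apply, Matrix.det_fin_two, e1, e3]
      ring
    have h0 : (M : M2) 0 0 ≠ 0 := fun h => (GeneralLinearGroup.det M).ne_zero (by rw [hd, h, mul_zero])
    have hMs : M = sc (Units.mk0 _ h0) := Units.ext (by
      show (M : M2) = Matrix.scalar (Fin 2) ((M : M2) 0 0)
      ext i j
      fin_cases i <;> fin_cases j <;> simp [e1, e2, e3])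
    refine hrd (Units.mk0 _ h0) (hMs ▸ Γ.mul_mem (hRsΓ hr) hq.1) ?_
    rw [← det_sc, ← hMs, hM, map_mul, show GeneralLinearGroup.det q = 1 from hq.2, mul_one]
  have flip : ∀ (u v : GL (Fin 2) F), r * u * r⁻¹ = -u → v * u = -(u * v) → (r * v) * u = u * (r * v) := by
    intro u v hu huv
    rw [mul_inv_eq_iff_eq_mul] at hu
    calc r * v * u = -(r * u * v) := by rw [mul_assoc, huv, mul_neg, ← mul_assoc]
      _ = u * (r * v) := by rw [hu, neg_mul, neg_mul, neg_neg, mul_assoc]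
  have keep : ∀ (u v : GL (Fin 2) F), r * u * r⁻¹ = u → v * u = u * v → (r * v) * u = u * (r * v) := by
    intro u v hu huv
    rw [mul_inv_eq_iff_eq_mul] at hu
    rw [mul_assoc, huv, ← mul_assoc, hu, mul_assoc]
  have hanti'' : A * C = -(C * A) := by rw [hanti, neg_neg]
  rcases hsign a haT with sa | sa <;> rcases hsign c hcT with sc' | sc'
  · exact ⟨1, one_mem _, keep A 1 sa (by simp), keep C 1 sc' (by simp)⟩
  · exact ⟨A, ⟨a, rfl⟩, keep A A sa rfl, flip C A sc' hanti''⟩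
  · exact ⟨C, ⟨c, rfl⟩, flip A C sa hanti, keep C C sc' rfl⟩
  · refine ⟨A * C, ⟨a * c, map_mul ι a c⟩, flip A _ sa ?_, flip C _ sc' ?_⟩
    · rw [mul_assoc, hanti, mul_neg]
    · rw [← mul_assoc C A, hanti, neg_mul, neg_neg]

end General

end Cfsg.Agent.Lib.PronormalPSL.GLTwoNorm
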