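import Cfsg.Agent.Lib.PronormalPSL.Wreath

/-!
The data of one plane, for `GL₂(q)` and, more generally, groups with a copy of `SL₂(q)`.
-/

set_option autoImplicit false
set_option linter.style.haveILetI false

namespace Cfsg.Agent.Lib.PronormalPSL.Plane

open Matrix
open Cfsg.Agent.Lib.FusionControl
open GLTwoNorm (sc)

variable {F : Type*} [Field F] [Fintype F]

theorem exists_planeData (ho : Odd (Fintype.card F)) {K : Type*} [Field K] [Fintype K]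
    (hK : Odd (Fintype.card K)) (Γ : Subgroup (GL (Fin 2) F)) (ι : Matrix.SpecialLinearGroup (Fin 2) K →* GL (Fin 2) F)
    (hι : Function.Injective ι)
    (hrange : ι.range = Γ ⊓ (GeneralLinearGroup.det : GL (Fin 2) F →* Fˣ).ker)
    (hsc : ∀ x ∈ Γ, sc (GeneralLinearGroup.det x)⁻¹ ∈ Γ)
    (hns : ∃ g ∈ Γ, (∃ v, g ^ 2 ^ v = 1) ∧ ∀ μ : Fˣ, sc μ ∈ Γ → GeneralLinearGroup.det g ≠ μ * μ) :
    ∃ R : Subgroup (GL (Fin 2) F), R ≤ Γ ∧ Wreath.PlaneData Γ R := by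
  haveI : Fact (Nat.Prime 2) := ⟨Nat.prime_two⟩
  have h2 : (2 : F) ≠ 0 := BlockDiag.odd_ne_two ho
  obtain ⟨R⟩ : Nonempty (Sylow 2 Γ) := inferInstance
  set Rs := (R : Subgroup Γ).map Γ.subtype with hRs
  have hmax : ∀ x ∈ Γ, x ∈ Subgroup.normalizer (Rs : Set (GL (Fin 2) F)) → (∃ t, x ^ 2 ^ t = 1) → x ∈ Rs := by
    intro x hxΓ hx ⟨t, ht⟩
    have hcyc : IsPGroup 2 (Subgroup.zpowers (⟨x, hxΓ⟩ : Γ)) := by
      rintro ⟨_, k, rfl⟩
      refine ⟨t, Subtype.ext (Subtype.ext ?_)⟩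
      show (x ^ k) ^ 2 ^ t = 1
      rw [← zpow_natCast, zpow_comm, zpow_natCast, ht, _root_.one_zpow]
    have hN : (⟨x, hxΓ⟩ : Γ) ∈ Subgroup.normalizer ((R : Subgroup Γ) : Set Γ) :=
      Subgroup.mem_normalizer_iff.mpr fun u => by
        have h := Subgroup.mem_normalizer_iff.mp hx (u : GL (Fin 2) F)
        have e : ∀ w : Γ, (w : GL (Fin 2) F) ∈ Rs ↔ w ∈ (R : Subgroup Γ) := fun w =>
          ⟨fun ⟨w', hw', e⟩ => by rwa [← Subtype.ext (e : (w' : GL (Fin 2) F) = w)], fun hw => ⟨w, hw, rfl⟩⟩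
        rw [← e, ← e]
        exact h
    have hsup := IsPGroup.to_sup_of_normal_right' hcyc R.2 (Subgroup.zpowers_le.mpr hN)
    exact ⟨⟨x, hxΓ⟩, R.3 hsup le_sup_right ▸ Subgroup.mem_sup_left (Subgroup.mem_zpowers _), rfl⟩
  obtain ⟨a, b, ha, hb, hab⟩ := GLTwoNorm.exists_noncommute hK Γ ι hι hrange R
  refine ⟨Rs, Subgroup.map_subtype_le _, R.2.map _, ?_, ⟨ι a, ι b, ha, hb, (hrange.le ⟨a, rfl⟩).2,
    (hrange.le ⟨b, rfl⟩).2, fun h => hab (hι (by rw [map_mul, map_mul]; exact h))⟩, hmax,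
    fun x hxΓ hx => GLTwoNorm.exists_pow_scalar hK h2 Γ ι hι hrange R hsc hns hxΓ hx⟩
  have hneg := GLTwoNorm.map_neg_one h2 ι hι (hrange.le.trans inf_le_right) (BlockDiag.odd_ne_two hK)
  refine hmax _ (hneg ▸ (hrange.le ⟨-1, rfl⟩).1) (Subgroup.mem_normalizer_iff.mpr fun g => ?_) ⟨1, ?_⟩
  · rw [show (-1 : GL (Fin 2) F) * g * (-1 : GL (Fin 2) F)⁻¹ = g by simp]
  · simp

/-- The plane of `GL₂(q)`. -/
theorem planeData_GL (ho : Odd (Fintype.card F)) :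
    ∃ R : Subgroup (GL (Fin 2) F), R ≤ ⊤ ∧ Wreath.PlaneData ⊤ R := by
  obtain ⟨ν, -, ⟨v, hv⟩, hν⟩ := GLTwoNorm.exists_nonsquare (BlockDiag.odd_ne_two ho) (⊤ : Subgroup Fˣ)
    (Subgroup.mem_top _)
  refine exists_planeData ho ho ⊤ SpecialLinearGroup.toGL SpecialLinearGroup.toGL_injective ?_
    (fun _ _ => Subgroup.mem_top _) ?_
  · rw [top_inf_eq]; exact BlockDiag.range_toGL_ker
  let g : GL (Fin 2) F := Units.map (Matrix.diagonalRingHom (Fin 2) F).toMonoidHom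
    (MulEquiv.piUnits.symm ![ν, 1])
  refine ⟨g, Subgroup.mem_top _, ⟨v, ?_⟩, fun μ _ h => hν μ (Subgroup.mem_top _) ?_⟩
  · show Units.map _ _ ^ 2 ^ v = 1
    rw [← map_pow, ← map_pow, show (![ν, 1] : Fin 2 → Fˣ) ^ 2 ^ v = 1 from funext fun i => by
      fin_cases i <;> simp [hv], map_one, map_one]
  · rw [← h]
    refine Units.ext ?_
    rw [GeneralLinearGroup.val_det_apply]
    show _ = (Matrix.diagonal _).det
    rw [Matrix.det_diagonal, Fin.prod_univ_two]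
    simp [MulEquiv.piUnits]

/-- The special linear group on `2ᵏ` planes. -/
theorem allPro_SL (ho : Odd (Fintype.card F)) {k : ℕ} (hk : 1 ≤ k) :
    PGroups.Pronormal.AllPro 2 (Matrix.SpecialLinearGroup (Fin (2 ^ k) ⊕ Fin (2 ^ k)) F) := by
  classical
  obtain ⟨R, -, pd⟩ := planeData_GL ho
  obtain ⟨W⟩ : Nonempty (Sylow 2 (Equiv.Perm (Fin (2 ^ k)))) := inferInstance
  refine Wreath.allPro ho hk pd W SpecialLinearGroup.toGL SpecialLinearGroup.toGL_injective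
    (fun a => BlockDiag.range_toGL_ker.le ⟨a, rfl⟩) ?_ fun _ _ _ _ _ => Subgroup.mem_top _
  rw [BlockDiag.range_toGL_ker]
  exact inf_le_right

end Cfsg.Agent.Lib.PronormalPSL.Plane
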