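import Cfsg.Agent.Lib.PGroups.Pronormal

/-!
Pronormality of the overgroups of a Sylow subgroup from the action of its normalizer.
-/

set_option autoImplicit false
set_option linter.style.haveILetI false

namespace Cfsg.Agent.Lib.PronormalPSL

open Cfsg.Agent.Lib.PGroups.Pronormal

variable {G : Type*} [Group G] [Finite G] {p : ℕ} [Fact p.Prime]

/-- It suffices to look at the elements normalizing one Sylow subgroup. -/
theorem allPro_of_normalizer (P₀ : Sylow p G)
    (h : ∀ K : Subgroup G, (P₀ : Subgroup G) ≤ K →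
      ∀ b ∈ Subgroup.normalizer ((P₀ : Subgroup G) : Set G), ∃ y ∈ K ⊔ cj b K, cj b K = cj y K) :
    AllPro p G := by
  have base : ∀ K : Subgroup G, (P₀ : Subgroup G) ≤ K → Cfsg.IsPronormal K := by
    intro K hK g
    obtain ⟨x, hx, he⟩ := exists_conj_in P₀.2 (hK.trans (le_sup_left (b := cj g K)))
      (fun hh => P₀.not_dvd_index (hh.trans (Dvd.intro _ (Subgroup.relIndex_mul_index
        (hK.trans (le_sup_left (b := cj g K)))))))
      ((cj_mono g hK).trans le_sup_right)
    obtain ⟨y, hy, hye⟩ := h K hK _ (cj_eq_cj.mp he)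
    have hb : cj (x⁻¹ * g) K ≤ K ⊔ cj g K := by
      rw [cj_mul]; exact cj_le_of_mem (inv_mem hx) le_sup_right
    refine ⟨x * y, mul_mem hx ((sup_le le_sup_left hb) hy), ?_⟩
    show cj g K = cj (x * y) K
    rw [cj_mul, ← hye, ← cj_mul, mul_inv_cancel_left]
  rintro K ⟨P, hP⟩
  obtain ⟨c, hc⟩ := MulAction.exists_smul_eq G P₀ P
  have hcP : cj c (P₀ : Subgroup G) = (P : Subgroup G) := by
    rw [← hc, Sylow.coe_subgroup_smul, Subgroup.pointwise_smul_def]; rfl
  have h1 : (P₀ : Subgroup G) ≤ cj c⁻¹ K := by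
    have := cj_mono c⁻¹ (hcP ▸ hP : cj c (P₀ : Subgroup G) ≤ K)
    rwa [← cj_mul, inv_mul_cancel, cj_one] at this
  have h2 := pronormal_map (φ := (MulAut.conj c).toMonoidHom) (MulAut.conj c).surjective (base _ h1)
  rwa [show (cj c⁻¹ K).map (MulAut.conj c).toMonoidHom = K by
    show cj c (cj c⁻¹ K) = K
    rw [← cj_mul, mul_inv_cancel, cj_one]] at h2

/-- Odd index means containing a Sylow 2-subgroup. -/
theorem pronormal_of_odd_index {G : Type*} [Group G] [Finite G] (h : AllPro 2 G) (K : Subgroup G)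
    (hK : Odd K.index) : Cfsg.IsPronormal K :=
  h K (contains_sylow_iff.mpr fun hd => (Nat.not_even_iff_odd.mpr hK) (even_iff_two_dvd.mpr hd))

/-- The property passes through surjections. -/
theorem allPro_map {G G' : Type*} [Group G] [Finite G] [Group G'] [Finite G'] {p : ℕ} [Fact p.Prime]
    (φ : G →* G') (hφ : Function.Surjective φ) (h : AllPro p G) : AllPro p G' := by
  intro K hK
  have hi : ¬ p ∣ (K.comap φ).index := by
    rw [Subgroup.index_comap_of_surjective _ hφ]; exact contains_sylow_iff.mp hK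
  have := pronormal_map hφ (h _ (contains_sylow_iff.mpr hi))
  rwa [Subgroup.map_comap_eq_self_of_surjective hφ] at this

/-- Self-normalizing Sylow subgroups suffice. -/
theorem allPro_of_sylow_self (P₀ : Sylow p G)
    (h : Subgroup.normalizer ((P₀ : Subgroup G) : Set G) ≤ P₀) : AllPro p G :=
  allPro_of_normalizer P₀ fun K hK b hb =>
    ⟨1, one_mem _, by rw [cj_self (hK (h hb)), cj_one]⟩

/-- A self-normalizing `p`-subgroup is a Sylow subgroup, and then all overgroups are pronormal. -/
theorem allPro_of_pgroup_self (Q : Subgroup G) (hQ : IsPGroup p Q)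
    (h : Subgroup.normalizer (Q : Set G) ≤ Q) : AllPro p G := by
  obtain ⟨S, hS⟩ := hQ.exists_le_sylow
  have hSQ : (S : Subgroup G) ≤ Q := by
    haveI := S.2.isNilpotent
    by_contra hne
    have hlt : Q.subgroupOf (S : Subgroup G) < ⊤ := lt_top_iff_ne_top.mpr fun h =>
      hne (Subgroup.subgroupOf_eq_top.mp h)
    obtain ⟨⟨x, hxS⟩, hxN, hxQ⟩ := SetLike.exists_of_lt (normalizerCondition_of_isNilpotent _ hlt)
    refine hxQ (h (Subgroup.mem_normalizer_iff.mpr fun u => ⟨fun hu => ?_, fun hu => ?_⟩))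
    · exact (Subgroup.mem_normalizer_iff.mp hxN ⟨u, hS hu⟩).mp hu
    · have huS : u ∈ (S : Subgroup G) := by
        have := mul_mem (mul_mem (inv_mem hxS) (hS hu)) hxS
        simpa [mul_assoc] using this
      exact (Subgroup.mem_normalizer_iff.mp hxN ⟨u, huS⟩).mpr hu
  have e : (S : Subgroup G) = Q := le_antisymm hSQ hS
  exact allPro_of_sylow_self S (e.symm ▸ h)

end Cfsg.Agent.Lib.PronormalPSL
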