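import Cfsg.Agent.Lib.PronormalPSL.Reduce
import Cfsg.Agent.Lib.ClassicalBN.Unitary

/-!
Overgroups of the unipotent subgroup of a split (B,N)-pair with abelian torus are normalized by the
Borel subgroup, hence pronormal.
-/

set_option autoImplicit false
set_option linter.style.haveILetI false

namespace Cfsg.Agent.Lib.PronormalPSL.SplitBN

open Cfsg.Agent.Lib.ClassicalBN
open Cfsg.Agent.Lib.PGroups.Pronormal
open scoped Matrix

universe u v

variable {G : Type u} [Group G] {P : Cfsg.BNPair G} {p : ℕ} {U : Subgroup G}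

/-- The torus is commutative. -/
def AbTorus (P : Cfsg.BNPair G) : Prop := ∀ t ∈ P.B ⊓ P.N, ∀ t' ∈ P.B ⊓ P.N, Commute t t'

/-- An element of `N` lies in the group generated by `U`, its conjugate and the torus. -/
theorem mem_conj_sup (S : Split P p U) {n : G} (hn : n ∈ P.N) :
    n ∈ (U ⊔ cj n U) ⊔ (P.B ⊓ P.N) := by
  set M := (U ⊔ cj n U) ⊔ (P.B ⊓ P.N)
  have hB : P.B ≤ M := fun b hb => by
    obtain ⟨u, hu, t, ht, rfl⟩ := S.decomp b hb
    exact mul_mem (Subgroup.mem_sup_left (Subgroup.mem_sup_left hu)) (Subgroup.mem_sup_right ht)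
  refine BNPair.mem_of_conj_le P hB fun b hb => ?_
  obtain ⟨u, hu, t, ht, rfl⟩ := S.decomp b hb
  rw [show n * (u * t) * n⁻¹ = (n * u * n⁻¹) * (n * t * n⁻¹) by group]
  exact mul_mem (Subgroup.mem_sup_left (Subgroup.mem_sup_right ⟨u, hu, rfl⟩))
    (Subgroup.mem_sup_right ⟨P.conj_mem n hn t ht, P.N.mul_mem (P.N.mul_mem hn ht.2) (P.N.inv_mem hn)⟩)

theorem torus_conj_U (S : Split P p U) {t : G} (ht : t ∈ P.B ⊓ P.N) : cj t U ≤ U := by
  rintro _ ⟨u, hu, rfl⟩; exact S.normal t ht.1 u hu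

theorem torus_normalizes (S : Split P p U) {n : G} (hn : n ∈ P.N) :
    P.B ⊓ P.N ≤ Subgroup.normalizer ((U ⊔ cj n U : Subgroup G) : Set G) := by
  intro t ht
  have hle : ∀ t ∈ P.B ⊓ P.N, cj t (U ⊔ cj n U) ≤ U ⊔ cj n U := fun t ht => by
    show (U ⊔ cj n U).map _ ≤ _
    rw [Subgroup.map_sup]
    refine sup_le ((torus_conj_U S ht).trans le_sup_left) (le_trans ?_ le_sup_right)
    show cj t (cj n U) ≤ cj n U
    rw [← cj_mul, show t * n = n * (n⁻¹ * t * n) by group, cj_mul]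
    exact cj_mono n (torus_conj_U S ⟨BNPair.t_conj' P hn ht.1 ht.2, P.N.mul_mem (P.N.mul_mem (P.N.inv_mem hn) ht.2) hn⟩)
  rw [← cj_iff]
  refine le_antisymm (hle t ht) ?_
  have := cj_mono t (hle t⁻¹ (inv_mem ht))
  rwa [← cj_mul, mul_inv_cancel, cj_one] at this

/-- Overgroups of `U` are normalized by the torus. -/
theorem conj_mem (S : Split P p U) (hT : AbTorus P) {H : Subgroup G} (hH : U ≤ H) {t : G}
    (ht : t ∈ P.B ⊓ P.N) {h : G} (hh : h ∈ H) : t * h * t⁻¹ ∈ H := by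
  obtain ⟨n, hn, hdc⟩ := BNPair.bruhat P h
  obtain ⟨a, ha, c, hc, rfl⟩ := (BNPair.mem_dc P).1 hdc
  obtain ⟨u, hu, s, hs, rfl⟩ := S.decomp a ha
  obtain ⟨v, hv, s', hs', rfl⟩ := S.decomp c hc
  set n' := s * n * s' with hn'
  have hnN : n' ∈ P.N := mul_mem (mul_mem hs.2 hn) hs'.2
  set v' := s'⁻¹ * v * s' with hv'
  have hv'U : v' ∈ U := by
    have := S.normal s'⁻¹ (inv_mem hs'.1) v hv
    rwa [inv_inv] at this
  have e : u * s * n * (v * s') = u * n' * v' := by rw [hn', hv']; group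
  rw [e] at hh ⊢
  have hnH : n' ∈ H := by
    have := mul_mem (mul_mem (inv_mem (hH hu)) hh) (inv_mem (hH hv'U))
    rwa [show u⁻¹ * (u * n' * v') * v'⁻¹ = n' by group] at this
  obtain ⟨x, hx, t0, ht0, e0⟩ : ∃ x ∈ U ⊔ cj n' U, ∃ t0 ∈ P.B ⊓ P.N, x * t0 = n' := by
    have h := mem_conj_sup S hnN
    rw [← SetLike.mem_coe, Subgroup.coe_mul_of_right_le_normalizer_left _ _ (torus_normalizes S hnN)] at h
    exact h
  have hXH : U ⊔ cj n' U ≤ H := sup_le hH (cj_le_of_mem hnH hH)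
  have ht0H : t0 ∈ H := by
    have := mul_mem (inv_mem (hXH hx)) hnH
    rwa [← e0, inv_mul_cancel_left] at this
  have hmid : t * n' * t⁻¹ ∈ H := by
    rw [← e0, show t * (x * t0) * t⁻¹ = (t * x * t⁻¹) * (t * t0 * t⁻¹) by group, (hT t ht t0 ht0).eq,
      mul_inv_cancel_right]
    exact mul_mem (hXH ((Subgroup.mem_normalizer_iff.mp (torus_normalizes S hnN ht) x).mp hx)) ht0H
  rw [show t * (u * n' * v') * t⁻¹ = (t * u * t⁻¹) * (t * n' * t⁻¹) * (t * v' * t⁻¹) by group]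
  exact mul_mem (mul_mem (hH (S.normal t ht.1 u hu)) hmid) (hH (S.normal t ht.1 v' hv'U))

theorem cj_eq_self [Finite G] (S : Split P p U) (hT : AbTorus P) {H : Subgroup G} (hH : U ≤ H) {b : G}
    (hb : b ∈ P.B) : cj b H = H := by
  obtain ⟨u, hu, t, ht, rfl⟩ := S.decomp b hb
  rw [cj_mul]
  have : cj t H = H := Subgroup.eq_of_le_of_card_ge (by rintro _ ⟨h, hh, rfl⟩; exact conj_mem S hT hH ht hh)
    (Nat.card_congr (Subgroup.equivMapOfInjective _ _ (MulEquiv.injective _)).toEquiv).le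
  rw [this, cj_self (hH hu)]

theorem normalizer_le (S : Split P p U) : Subgroup.normalizer (U : Set G) ≤ P.B := by
  intro g hg
  obtain ⟨n, hn, hdc⟩ := BNPair.bruhat P g
  obtain ⟨a, ha, c, hc, rfl⟩ := (BNPair.mem_dc P).1 hdc
  have hBN : P.B ≤ Subgroup.normalizer (U : Set G) := fun b hb => Subgroup.mem_normalizer_iff.mpr fun u =>
    ⟨S.normal b hb u, fun h => by
      have := S.normal b⁻¹ (inv_mem hb) _ h
      simpa [mul_assoc] using this⟩
  have hnU : n ∈ Subgroup.normalizer (U : Set G) := by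
    have := mul_mem (mul_mem (inv_mem (hBN ha)) hg) (inv_mem (hBN hc))
    rwa [show a⁻¹ * (a * n * c) * c⁻¹ = n by group] at this
  have hnB : n ∈ P.B := by
    have h := mem_conj_sup S hn
    rw [cj_iff.mpr hnU, sup_idem] at h
    exact (sup_le S.le inf_le_left) h
  exact mul_mem (mul_mem ha hnB) hc

/-- Pronormality of the overgroups of Sylow subgroups in the defining characteristic. -/
theorem allPro [Finite G] [Fact p.Prime] (S : Split P p U) (hT : AbTorus P) : AllPro p G := by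
  obtain ⟨Q, hQ⟩ := S.pgroup.exists_le_sylow
  have hQU : (Q : Subgroup G) ≤ U := by
    haveI := Q.2.isNilpotent
    by_contra hne
    have hlt : U.subgroupOf (Q : Subgroup G) < ⊤ := lt_top_iff_ne_top.mpr fun h =>
      hne (Subgroup.subgroupOf_eq_top.mp h)
    obtain ⟨⟨x, hxQ⟩, hxN, hxU⟩ := SetLike.exists_of_lt (normalizerCondition_of_isNilpotent _ hlt)
    have hxN' : x ∈ Subgroup.normalizer (U : Set G) := Subgroup.mem_normalizer_iff.mpr fun u => ⟨fun hu => by
        exact (Subgroup.mem_normalizer_iff.mp hxN ⟨u, hQ hu⟩).mp hu,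
      fun hu => by
        have huQ : u ∈ (Q : Subgroup G) := by
          have := mul_mem (mul_mem (inv_mem hxQ) (hQ hu)) hxQ
          simpa [mul_assoc] using this
        exact (Subgroup.mem_normalizer_iff.mp hxN ⟨u, huQ⟩).mpr hu⟩
    obtain ⟨u, hu, t, ht, e⟩ := S.decomp x (normalizer_le S hxN')
    have htQ : t ∈ (Q : Subgroup G) := by
      have := mul_mem (inv_mem (hQ hu)) hxQ
      rwa [e, inv_mul_cancel_left] at this
    have ht1 : t = 1 := by
      obtain ⟨k, hk⟩ := Q.2 ⟨t, htQ⟩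
      have hk' : orderOf t ∣ p ^ k := orderOf_dvd_of_pow_eq_one (congrArg Subtype.val hk)
      have h2 : orderOf t ∣ Nat.card ↥(P.B ⊓ P.N) := by
        rw [← Subgroup.orderOf_mk t ht]; exact orderOf_dvd_natCard _
      exact orderOf_eq_one_iff.mp (Nat.eq_one_of_dvd_coprimes
        (Nat.Coprime.pow_left k ((Fact.out : p.Prime).coprime_iff_not_dvd.mpr S.torus)) hk' h2)
    exact hxU (show x ∈ U by rw [e, ht1, mul_one]; exact hu)
  have hQe : (Q : Subgroup G) = U := le_antisymm hQU hQ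
  refine allPro_of_normalizer Q fun K hK b hb => ⟨1, one_mem _, ?_⟩
  rw [cj_one]
  exact cj_eq_self S hT (hQe ▸ hK) (normalizer_le S (hQe ▸ hb))

theorem abTorus_map {H : Type v} [Group H] (φ : G →* H) [Finite G] (hφ : Function.Surjective φ)
    (hker : φ.ker ≤ P.B) (hT : AbTorus P) : AbTorus (mapPair φ P hφ hker) := by
  have e : P.B.map φ ⊓ P.N.map φ ≤ (P.B ⊓ P.N).map φ := by
    rintro _ ⟨⟨b, hb, rfl⟩, m, hm, hmb⟩
    exact ⟨m, ⟨mem_of_map φ hker (hmb ▸ ⟨b, hb, rfl⟩), hm⟩, hmb⟩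
  intro t ht t' ht'
  obtain ⟨a, ha, rfl⟩ := e ht
  obtain ⟨b, hb, rfl⟩ := e ht'
  exact (hT a ha b hb).map φ

theorem exists_split_iso [Finite G] (S : Split P p U) (hT : AbTorus P) {Y : Subgroup G} [Y.Normal] (hUY : U ≤ Y)
    {Z : Type v} [Group Z] (φ : Y ≃* Z) :
    ∃ (P' : Cfsg.BNPair (Z ⧸ Subgroup.center Z)) (U' : Subgroup (Z ⧸ Subgroup.center Z)),
      Split P' p U' ∧ AbTorus P' := by
  haveI : Finite Z := Finite.of_equiv Y φ.toEquiv
  have h1 : AbTorus (restrictPair S Y hUY) := fun t ht t' ht' => Subtype.ext (hT t ht t' ht')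
  have hk1 : φ.toMonoidHom.ker ≤ (restrictPair S Y hUY).B := by
    rw [(MonoidHom.ker_eq_bot_iff _).2 φ.injective]; exact bot_le
  have hk2 : (QuotientGroup.mk' (Subgroup.center Z)).ker ≤
      (mapPair φ.toMonoidHom (restrictPair S Y hUY) φ.surjective hk1).B := by
    rw [QuotientGroup.ker_mk']
    intro z hz
    refine BNPair.mem_of_conj_le _ le_rfl fun b hb => ?_
    rw [← Subgroup.mem_center_iff.1 hz b, mul_inv_cancel_right]
    exact hb
  exact ⟨_, _, ((S.restrict Y hUY).map φ.toMonoidHom φ.surjective hk1).map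
      (QuotientGroup.mk' (Subgroup.center Z)) (QuotientGroup.mk'_surjective _) hk2,
    abTorus_map _ (QuotientGroup.mk'_surjective _) hk2 (abTorus_map _ φ.surjective hk1 h1)⟩

theorem abTorus_frame {N : ℕ} {F : Type u} [Field F] [Finite F] {Gm N₀ : Subgroup (GL (Fin N) F)}
    {S : Set (GL (Fin N) F)} (fr : Frame Gm N₀ S) : AbTorus fr.pair := by
  intro t ht t' ht'
  have h : ∀ x ∈ fr.pair.B ⊓ fr.pair.N, (x : GL (Fin N) F) ∈ dia N F := fun x hx =>
    (BB_mono hx.1 (fr.N₀_le hx.2).2).2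
  have h1 : HasPerm (t : GL (Fin N) F) 1 := h t ht
  have h2 : HasPerm (t' : GL (Fin N) F) 1 := h t' ht'
  refine Subtype.ext (Units.ext (Matrix.ext fun i j => ?_))
  show (((t : GL (Fin N) F) : Matrix (Fin N) (Fin N) F) * ((t' : GL (Fin N) F) : Matrix (Fin N) (Fin N) F)) i j =
    (((t' : GL (Fin N) F) : Matrix (Fin N) (Fin N) F) * ((t : GL (Fin N) F) : Matrix (Fin N) (Fin N) F)) i j
  rw [h2.apply_mul, h1.apply_mul, Equiv.Perm.one_apply]
  rcases eq_or_ne i j with rfl | hij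
  · ring
  · rw [h1 i j (by simpa using hij), h2 i j (by simpa using hij), zero_mul, zero_mul]

variable {F : Type u} [Field F]

theorem psu_split_ab [Fintype F] (p : ℕ) [Fact p.Prime] [CharP F p] (n q : ℕ) (hn : 2 ≤ n) (hF : Fintype.card F = q ^ 2) :
    ∃ (P : Cfsg.BNPair (Cfsg.PSU n F q)) (U : Subgroup (Cfsg.PSU n F q)), Split P p U ∧ AbTorus P := by
  obtain ⟨σ, hσd⟩ : ∃ σ, σ = Classical.conjHom hF := ⟨_, rfl⟩
  have hσ : ∀ x, σ (σ x) = x := hσd ▸ Classical.conjHom_conjHom hF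
  obtain ⟨g, hg⟩ := Fusion.PSUWitt.exists_witt_basis hF (n := n) (by omega)
  rw [← hσd] at hg
  obtain ⟨S, fr⟩ := herm_frame (n := n) σ hσ (hσd ▸ Classical.conjHom_ne_id hF)
  obtain ⟨M, hM⟩ : ∃ M, M = hermAForm σ hσ n := ⟨_, rfl⟩
  rw [← hM] at fr
  have hgrp := fr.grp_eq_of_full M.nform
  have hone : (1 : Matrix (Fin n) (Fin n) F) = ((g⁻¹ : GL (Fin n) F) : Matrix (Fin n) (Fin n) F)ᵀ * M.mat *
      ((g⁻¹ : GL (Fin n) F) : Matrix (Fin n) (Fin n) F).map σ := by
    rw [hM, hermAForm_mat, ← hg, ← mul_assoc, ← Matrix.transpose_mul, Units.mul_inv, Matrix.transpose_one, one_mul,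
      ← Matrix.map_mul, Units.mul_inv, Matrix.map_one _ (map_zero σ) (map_one σ)]
  have key : ∀ A : GL (Fin n) F, (A : Matrix (Fin n) (Fin n) F)ᵀ * (A : Matrix (Fin n) (Fin n) F).map σ = 1 ↔ g⁻¹ * A * g ∈ M.grp := by
    intro A
    obtain ⟨B, hB⟩ : ∃ B, B = g⁻¹ * A * g := ⟨_, rfl⟩
    have hA : A = g * B * g⁻¹ := by rw [hB]; group
    rw [← hB, M.mem_grp, show M.phi.mapMatrix (B : Matrix (Fin n) (Fin n) F) = (B : Matrix (Fin n) (Fin n) F).map σ by
      rw [hM]; rfl, hA]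
    simp only [Units.val_mul, Matrix.transpose_mul, Matrix.map_mul]
    obtain ⟨C, hC⟩ : ∃ C : Matrix (Fin n) (Fin n) F, C = (B : Matrix (Fin n) (Fin n) F)ᵀ * M.mat * (B : Matrix (Fin n) (Fin n) F).map σ := ⟨_, rfl⟩
    rw [← hC]
    have e : ((g⁻¹ : GL (Fin n) F) : Matrix (Fin n) (Fin n) F)ᵀ * ((B : Matrix (Fin n) (Fin n) F)ᵀ * (g : Matrix (Fin n) (Fin n) F)ᵀ) *
        ((g : Matrix (Fin n) (Fin n) F).map σ * (B : Matrix (Fin n) (Fin n) F).map σ * ((g⁻¹ : GL (Fin n) F) : Matrix (Fin n) (Fin n) F).map σ) =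
        ((g⁻¹ : GL (Fin n) F) : Matrix (Fin n) (Fin n) F)ᵀ * C * ((g⁻¹ : GL (Fin n) F) : Matrix (Fin n) (Fin n) F).map σ := by
      rw [hC, hM, hermAForm_mat, ← hg]; simp only [mul_assoc]
    rw [e]
    conv_lhs => rw [hone]
    constructor
    · intro h
      have h2 := congrArg (fun X => (g : Matrix (Fin n) (Fin n) F)ᵀ * X * (g : Matrix (Fin n) (Fin n) F).map σ) h
      simp only [← mul_assoc, ← Matrix.transpose_mul, Units.inv_mul, Matrix.transpose_one, one_mul] at h2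
      simpa [mul_assoc, ← Matrix.map_mul, Matrix.map_one _ (map_zero σ) (map_one σ)] using h2
    · intro h; rw [h]
  -- the special unitary group inside the group of the frame
  let det : fr.grp →* Fˣ := Matrix.GeneralLinearGroup.det.comp fr.grp.subtype
  have hU : (M.grp ⊓ uni n F).subgroupOf fr.grp ≤ det.ker := fun u hu => by
    rw [MonoidHom.mem_ker]
    refine Units.ext ?_
    show ((u : GL (Fin n) F) : Matrix (Fin n) (Fin n) F).det = 1
    refine (Matrix.det_of_upperTriangular fun i j (h : j < i) => uni_below (hu : (u : GL (Fin n) F) ∈ M.grp ⊓ uni n F).2 h).trans ?_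
    exact Finset.prod_eq_one fun i _ => uni_diag (hu : (u : GL (Fin n) F) ∈ M.grp ⊓ uni n F).2 i
  have hmemSU : ∀ A : Matrix.SpecialLinearGroup (Fin n) F, A ∈ Cfsg.SU n F q ↔
      g⁻¹ * Matrix.SpecialLinearGroup.toGL A * g ∈ fr.grp := fun A => by
    rw [Classical.mem_SU_iff hF, ← hσd, hgrp, ← key]; rfl
  let f : Cfsg.SU n F q →* det.ker :=
    { toFun := fun A => ⟨⟨g⁻¹ * Matrix.SpecialLinearGroup.toGL A.1 * g, (hmemSU A.1).1 A.2⟩, by
        rw [MonoidHom.mem_ker]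
        show Matrix.GeneralLinearGroup.det (g⁻¹ * Matrix.SpecialLinearGroup.toGL A.1 * g) = 1
        rw [map_mul, map_mul, map_inv, mul_comm, ← mul_assoc, mul_inv_cancel, one_mul]
        exact Units.ext A.1.2⟩
      map_one' := Subtype.ext (Subtype.ext (by simp))
      map_mul' := fun A B => Subtype.ext (Subtype.ext (by
        show g⁻¹ * Matrix.SpecialLinearGroup.toGL (A.1 * B.1) * g = (g⁻¹ * _ * g) * (g⁻¹ * _ * g)
        rw [map_mul]; group)) }
  have hbij : Function.Bijective f := by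
    refine ⟨fun A B h => ?_, fun x => ?_⟩
    · have h2 : g⁻¹ * Matrix.SpecialLinearGroup.toGL A.1 * g = g⁻¹ * Matrix.SpecialLinearGroup.toGL B.1 * g :=
        congrArg (fun z : det.ker => ((z : fr.grp) : GL (Fin n) F)) h
      exact Subtype.ext (Matrix.SpecialLinearGroup.toGL_injective (mul_left_cancel (mul_right_cancel h2)))
    · obtain ⟨⟨B, hB⟩, hx⟩ := x
      have hd : Matrix.GeneralLinearGroup.det B = 1 := MonoidHom.mem_ker.1 hx
      obtain ⟨A, hA⟩ : ∃ A : Matrix.SpecialLinearGroup (Fin n) F, Matrix.SpecialLinearGroup.toGL A = g * B * g⁻¹ := by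
        refine ⟨⟨((g * B * g⁻¹ : GL (Fin n) F) : Matrix (Fin n) (Fin n) F), ?_⟩, Units.ext rfl⟩
        show (Matrix.GeneralLinearGroup.det (g * B * g⁻¹) : F) = 1
        rw [map_mul, map_mul, map_inv, hd, mul_one, mul_inv_cancel, Units.val_one]
      have e : g⁻¹ * Matrix.SpecialLinearGroup.toGL A * g = B := by rw [hA]; group
      exact ⟨⟨A, (hmemSU A).2 (e.symm ▸ hB)⟩, Subtype.ext (Subtype.ext e)⟩
  exact exists_split_iso (fr.split (p := p)) (abTorus_frame fr) hU (MulEquiv.ofBijective f hbij).symm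


end Cfsg.Agent.Lib.PronormalPSL.SplitBN
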