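import Cfsg.Agent.Lib.PronormalPSL.Reduce
import Cfsg.Agent.Lib.Geometry.Dickson.Main
import Cfsg.Agent.Lib.Geometry.Dickson.Global
import Cfsg.Agent.Lib.Geometry.Dickson.FourGroups
import Cfsg.Agent.Lib.Geometry.Dickson.MaxExist

/-!
Normalizers of Sylow 2-subgroups of `PSL₂(q)`, `q` odd, and pronormality of their overgroups.
-/

set_option autoImplicit false
set_option linter.style.haveILetI false

namespace Cfsg.Agent.Lib.PronormalPSL.Two

open Cfsg.Agent.Lib.Geometry.Dickson Cfsg.Agent.Lib.PGroups.Pronormal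
open DihedralGroup (r sr)

/-! ### Dihedral groups -/

section Dihedral

variable {m : ℕ} [NeZero m]

theorem exists_sr_mem (T : Sylow 2 (DihedralGroup m)) : ∃ i, sr i ∈ (T : Subgroup (DihedralGroup m)) := by
  by_contra hne
  push Not at hne
  have hle : (T : Subgroup (DihedralGroup m)) ≤ Subgroup.zpowers (r 1) := by
    rintro (j | j) hj
    · exact ⟨(j.val : ℤ), by simp [DihedralGroup.r_one_pow]⟩
    · exact absurd hj (hne j)
  have h2 : (Subgroup.zpowers (r 1 : DihedralGroup m)).index = 2 := by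
    have := Subgroup.card_mul_index (Subgroup.zpowers (r 1 : DihedralGroup m))
    rw [Nat.card_zpowers, DihedralGroup.orderOf_r_one, DihedralGroup.nat_card, mul_comm 2 m] at this
    exact Nat.eq_of_mul_eq_mul_left (Nat.pos_of_ne_zero (NeZero.ne m)) this
  have := Subgroup.index_dvd_of_le hle
  rw [h2] at this
  exact T.not_dvd_index this

/-- A Sylow 2-subgroup of a dihedral group is self-normalizing. -/
theorem mem_of_normalizes (T : Sylow 2 (DihedralGroup m)) {x : DihedralGroup m}
    (hx : x ∈ Subgroup.normalizer ((T : Subgroup (DihedralGroup m)) : Set (DihedralGroup m))) :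
    x ∈ (T : Subgroup (DihedralGroup m)) := by
  have hsq : x * x ∈ (T : Subgroup (DihedralGroup m)) := by
    rcases x with j | j
    · obtain ⟨i, hi⟩ := exists_sr_mem T
      have h := (T : Subgroup (DihedralGroup m)).mul_mem ((Subgroup.mem_normalizer_iff.mp hx _).mp hi) hi
      simpa [DihedralGroup.inv_r, ← two_mul, sub_eq_add_neg, add_comm, add_left_comm] using h
    · simp
  have hcyc : IsPGroup 2 (Subgroup.zpowers x) := by
    rintro ⟨_, k, rfl⟩
    obtain ⟨t, ht⟩ := T.2 (⟨x * x, hsq⟩ ^ k)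
    refine ⟨t + 1, Subtype.ext ?_⟩
    have ht' : ((x * x) ^ k) ^ 2 ^ t = 1 := congrArg Subtype.val ht
    show (x ^ k) ^ 2 ^ (t + 1) = 1
    rw [pow_succ', pow_mul, pow_two, ← (Commute.refl x).mul_zpow, ht']
  have hsup := IsPGroup.to_sup_of_normal_right' hcyc T.2 (Subgroup.zpowers_le.mpr hx)
  rw [← T.3 hsup le_sup_right]
  exact Subgroup.mem_sup_left (Subgroup.mem_zpowers x)

theorem commute_rot {i j : ZMod m} (h : Commute (sr i) (r j)) : j + j = 0 := by
  have h' := h.eq
  simp only [DihedralGroup.sr_mul_r, DihedralGroup.r_mul_sr, DihedralGroup.sr.injEq] at h'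
  linear_combination h'

theorem sq_one_of_rot (T : Subgroup (DihedralGroup m)) (h : ∀ j, r j ∈ T → j + j = 0) {x : DihedralGroup m}
    (hx : x ∈ T) : x * x = 1 := by
  rcases x with j | j
  · simp [h j hx]
  · simp

theorem card_le_four (hm : 2 ∣ m) (T : Subgroup (DihedralGroup m)) {i : ZMod m} (hi : sr i ∈ T)
    (h : ∀ j, r j ∈ T → j + j = 0) : Nat.card T ≤ 4 := by
  classical
  set c : ZMod m := ((m / 2 : ℕ) : ZMod m)
  have hsub : (T : Set (DihedralGroup m)) ⊆ ({1, r c, sr i, sr (i + c)} : Finset (DihedralGroup m)) := by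
    intro x hx
    simp only [Finset.coe_insert, Finset.coe_singleton, Set.mem_insert_iff, Set.mem_singleton_iff]
    rcases x with j | j
    · rcases zmod_double_eq_zero (h j hx) with e | e
      · left; rw [e]; rfl
      · right; left; rw [e]
    · have h2 := T.mul_mem hi hx
      rw [DihedralGroup.sr_mul_sr] at h2
      rcases zmod_double_eq_zero (h _ h2) with e | e
      · right; right; left; rw [sub_eq_zero.mp e]
      · right; right; right; rw [show (m / 2 : ℕ) = (m / 2 : ℕ) from rfl] at e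
        rw [show j = i + c by rw [show c = j - i from e.symm]; ring]
  have h4 := Set.ncard_le_ncard hsub (Finset.finite_toSet _)
  rw [Set.ncard_coe_finset] at h4
  rw [← Nat.card_coe_set_eq] at h4
  exact h4.trans Finset.card_le_four

/-- At most one central involution. -/
theorem central_unique (T : Subgroup (DihedralGroup m)) {i : ZMod m} (hi : sr i ∈ T) {j : ZMod m}
    (hj : r j ∈ T) (hj2 : j + j ≠ 0) {c c' : DihedralGroup m} (hc : ∀ x ∈ T, Commute x c)
    (hc' : ∀ x ∈ T, Commute x c') (h1 : c ≠ 1) (h1' : c' ≠ 1) : c = c' := by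
  have key : ∀ {c : DihedralGroup m}, (∀ x ∈ T, Commute x c) → c ≠ 1 → c = r ((m / 2 : ℕ) : ZMod m) := by
    intro c hc h1
    rcases c with l | l
    · rcases zmod_double_eq_zero (commute_rot (hc _ hi)) with e | e
      · subst e; exact absurd rfl h1
      · rw [e]
    · exact absurd (commute_rot (hc _ hj).symm) hj2
  rw [key hc h1, key hc' h1']

end Dihedral

/-- Subgroups of a cyclic group with the same order are equal. -/
theorem eq_of_card {C : Type*} [Group C] [Finite C] [IsCyclic C] {A B : Subgroup C}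
    (h : Nat.card A = Nat.card B) : A = B := by
  classical
  haveI := Fintype.ofFinite C
  have key : ∀ D : Subgroup C, Nat.card D = Nat.card A →
      (D : Set C) = {x : C | x ^ Nat.card A = 1} := by
    intro D hD
    refine Set.eq_of_subset_of_ncard_le (fun x hx => ?_) ?_ (Set.toFinite _)
    · show x ^ Nat.card A = 1
      rw [← hD]
      exact congrArg Subtype.val (pow_card_eq_one' (x := (⟨x, hx⟩ : D)))
    · rw [← Nat.card_coe_set_eq (D : Set C), show Nat.card (D : Set C) = Nat.card A from hD,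
        Set.ncard_eq_toFinset_card']
      simpa using IsCyclic.card_pow_eq_one_le (α := C) (n := Nat.card A) Nat.card_pos
  exact SetLike.coe_injective ((key A rfl).trans (key B h.symm).symm)

/-! ### `PSL₂` -/

variable {F : Type*} [Field F] [Fintype F]

local notation "PSL2" => Matrix.ProjectiveSpecialLinearGroup (Fin 2) F

variable (hodd : Fintype.card F % 2 = 1)
include hodd

theorem two_card : 2 * Nat.card PSL2 = Fintype.card F * ((Fintype.card F - 1) * (Fintype.card F + 1)) := by
  haveI : Fact (ringChar F).Prime := ⟨CharP.char_is_prime F (ringChar F)⟩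
  rw [← card_PSL2 (F := F),
    show Nat.gcd 2 (Fintype.card F - 1) = 2 from Nat.gcd_eq_left (Nat.dvd_iff_mod_eq_zero.mpr (by omega))]

theorem exists_invol : ∃ z : PSL2, orderOf z = 2 := by
  haveI : Fact (Nat.Prime 2) := ⟨Nat.prime_two⟩
  refine exists_prime_orderOf_dvd_card' 2 ?_
  obtain ⟨a, ha⟩ : 2 ∣ Fintype.card F - 1 := Nat.dvd_iff_mod_eq_zero.mpr (by omega)
  obtain ⟨b, hb⟩ : 2 ∣ Fintype.card F + 1 := Nat.dvd_iff_mod_eq_zero.mpr (by omega)
  refine ⟨Fintype.card F * (a * b), Nat.eq_of_mul_eq_mul_left two_pos ?_⟩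
  rw [two_card hodd, ha, hb]; ring

theorem four_dvd_sylow (S : Sylow 2 PSL2) : 4 ∣ Nat.card (S : Subgroup PSL2) := by
  haveI : Fact (Nat.Prime 2) := ⟨Nat.prime_two⟩
  obtain ⟨z, hz⟩ := exists_invol hodd
  obtain ⟨m, hm, -, -, -, ⟨e⟩⟩ := invol_data hodd hz
  have h4 : 4 ∣ Nat.card PSL2 := by
    refine Dvd.dvd.trans ?_ (Subgroup.centralizer ({z} : Set PSL2)).card_subgroup_dvd_card
    rw [Nat.card_congr e.toEquiv, DihedralGroup.nat_card]
    obtain ⟨a, ha⟩ := hm
    exact ⟨a, by omega⟩
  have hc : Nat.Coprime 4 (S : Subgroup PSL2).index :=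
    Nat.Coprime.pow_left 2 ((Nat.prime_two.coprime_iff_not_dvd).mpr S.not_dvd_index)
  rw [← (S : Subgroup PSL2).card_mul_index] at h4
  exact hc.dvd_of_dvd_mul_right h4

theorem exists_central (S : Sylow 2 PSL2) :
    ∃ z ∈ (S : Subgroup PSL2), orderOf z = 2 ∧ ∀ s ∈ (S : Subgroup PSL2), Commute s z := by
  haveI : Fact (Nat.Prime 2) := ⟨Nat.prime_two⟩
  have h4 := four_dvd_sylow hodd S
  haveI : Nontrivial (S : Subgroup PSL2) := Finite.one_lt_card_iff_nontrivial.mp
    (by have := Nat.le_of_dvd Nat.card_pos h4; omega)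
  haveI := S.2.center_nontrivial
  obtain ⟨k, hk⟩ := IsPGroup.iff_card.mp (S.2.to_subgroup (Subgroup.center (S : Subgroup PSL2)))
  have h2 : 2 ∣ Nat.card (Subgroup.center (S : Subgroup PSL2)) := by
    rw [hk]
    refine dvd_pow_self 2 fun h0 => ?_
    have := Finite.one_lt_card (α := Subgroup.center (S : Subgroup PSL2))
    rw [hk, h0] at this
    omega
  obtain ⟨⟨z, hzc⟩, hz⟩ := exists_prime_orderOf_dvd_card' 2 h2
  refine ⟨z, z.2, (Subgroup.orderOf_coe z).trans ((Subgroup.orderOf_mk z hzc).symm.trans hz), fun s hs => ?_⟩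
  exact congrArg Subtype.val (Subgroup.mem_center_iff.mp hzc ⟨s, hs⟩)

/-- The Sylow subgroup through the centralizer of a central involution. -/
theorem exists_dihedral (S : Sylow 2 PSL2) {z : PSL2} (hz : orderOf z = 2)
    (hc : ∀ s ∈ (S : Subgroup PSL2), Commute s z) :
    ∃ (m : ℕ) (_ : NeZero m) (_ : 2 ∣ m)
      (e : ↥(Subgroup.centralizer ({z} : Set PSL2)) ≃* DihedralGroup m) (T : Sylow 2 (DihedralGroup m)),
      ∀ x, e x ∈ (T : Subgroup (DihedralGroup m)) ↔ (x : PSL2) ∈ (S : Subgroup PSL2) := by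
  haveI : Fact (Nat.Prime 2) := ⟨Nat.prime_two⟩
  obtain ⟨m, hm, hm0, -, -, ⟨e⟩⟩ := invol_data hodd hz
  have hle : (S : Subgroup PSL2) ≤ Subgroup.centralizer ({z} : Set PSL2) := fun s hs =>
    Subgroup.mem_centralizer_singleton_iff.mpr (hc s hs).eq
  refine ⟨m, ⟨hm0⟩, hm, e, (S.subtype hle).mapSurjective (f := e.toMonoidHom) e.surjective, fun x => ?_⟩
  erw [Sylow.coe_mapSurjective, Sylow.coe_subtype]
  constructor
  · rintro ⟨y, hy, he⟩; rwa [← e.injective he]
  · exact fun h => ⟨x, h, rfl⟩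

/-- Elements normalizing a Sylow 2-subgroup and fixing a central involution lie in it. -/
theorem mem_of_commute (S : Sylow 2 PSL2) {z : PSL2} (hz : orderOf z = 2)
    (hc : ∀ s ∈ (S : Subgroup PSL2), Commute s z) {b : PSL2}
    (hb : b ∈ Subgroup.normalizer ((S : Subgroup PSL2) : Set PSL2)) (hbz : Commute b z) :
    b ∈ (S : Subgroup PSL2) := by
  obtain ⟨m, hm0, -, e, T, hT⟩ := exists_dihedral hodd S hz hc
  set x : ↥(Subgroup.centralizer ({z} : Set PSL2)) := ⟨b, Subgroup.mem_centralizer_singleton_iff.mpr hbz.eq⟩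
  refine (hT x).mp (mem_of_normalizes T (Subgroup.mem_normalizer_iff.mpr fun y => ?_))
  obtain ⟨y, rfl⟩ := e.surjective y
  rw [← map_inv, ← map_mul, ← map_mul, hT, hT]
  exact Subgroup.mem_normalizer_iff.mp hb y

/-- The two cases. -/
theorem normalizer_cases (S : Sylow 2 PSL2) :
    (Subgroup.normalizer ((S : Subgroup PSL2) : Set PSL2) ≤ (S : Subgroup PSL2)) ∨
    (Nat.card (S : Subgroup PSL2) = 4 ∧ (∀ s ∈ (S : Subgroup PSL2), s * s = 1) ∧
      (∀ s ∈ (S : Subgroup PSL2), ∀ t ∈ (S : Subgroup PSL2), Commute s t) ∧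
      ∀ b ∈ Subgroup.normalizer ((S : Subgroup PSL2) : Set PSL2), b ∉ (S : Subgroup PSL2) →
        ∀ s ∈ (S : Subgroup PSL2), s ≠ 1 → b * s * b⁻¹ ≠ s) := by
  haveI : Fact (Nat.Prime 2) := ⟨Nat.prime_two⟩
  obtain ⟨z, hzS, hz, hc⟩ := exists_central hodd S
  obtain ⟨m, hm0, hm, e, T, hT⟩ := exists_dihedral hodd S hz hc
  obtain ⟨i, hi⟩ := exists_sr_mem T
  have hle : (S : Subgroup PSL2) ≤ Subgroup.centralizer ({z} : Set PSL2) := fun s hs =>
    Subgroup.mem_centralizer_singleton_iff.mpr (hc s hs).eq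
  by_cases h4 : ∀ j, r j ∈ (T : Subgroup (DihedralGroup m)) → j + j = 0
  · right
    have hcard : Nat.card (S : Subgroup PSL2) = 4 := by
      refine le_antisymm ?_ (Nat.le_of_dvd Nat.card_pos (four_dvd_sylow hodd S))
      refine le_trans ?_ (card_le_four hm _ hi h4)
      exact Nat.card_le_card_of_injective (fun s => ⟨e ⟨s, hle s.2⟩, (hT _).mpr s.2⟩) fun s t h => by
        have := e.injective (congrArg Subtype.val h)
        exact Subtype.ext (congrArg Subtype.val this :)
    have hsq : ∀ s ∈ (S : Subgroup PSL2), s * s = 1 := fun s hs => by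
      have := sq_one_of_rot _ h4 ((hT ⟨s, hle hs⟩).mpr hs)
      rw [← map_mul, ← e.map_one] at this
      exact congrArg Subtype.val (e.injective this)
    have hcomm : ∀ s ∈ (S : Subgroup PSL2), ∀ t ∈ (S : Subgroup PSL2), Commute s t := fun s hs t ht => by
      have hinv : ∀ u ∈ (S : Subgroup PSL2), u⁻¹ = u := fun u hu => inv_eq_of_mul_eq_one_right (hsq u hu)
      show s * t = t * s
      rw [← hinv _ (mul_mem hs ht), mul_inv_rev, hinv _ hs, hinv _ ht]
    refine ⟨hcard, hsq, hcomm, fun b hb hbS s hs hs1 he => hbS ?_⟩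
    exact mem_of_commute hodd S (orderOf_eq_two_iff'.mpr ⟨hsq s hs, hs1⟩) (fun t ht => hcomm t ht s hs) hb
      (mul_inv_eq_iff_eq_mul.mp he)
  · left
    push Not at h4
    obtain ⟨j, hj, hj2⟩ := h4
    intro b hb
    refine mem_of_commute hodd S hz hc hb (mul_inv_eq_iff_eq_mul.mp ?_)
    have hz' : b * z * b⁻¹ ∈ (S : Subgroup PSL2) := (Subgroup.mem_normalizer_iff.mp hb z).mp hzS
    have key : ∀ (u : PSL2) (hu : u ∈ (S : Subgroup PSL2)), (∀ s ∈ (S : Subgroup PSL2), Commute s u) →
        u ≠ 1 → (∀ y ∈ (T : Subgroup (DihedralGroup m)), Commute y (e ⟨u, hle hu⟩)) ∧ e ⟨u, hle hu⟩ ≠ 1 := by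
      intro u hu huc hu1
      refine ⟨fun y hy => ?_, fun h => hu1 (congrArg Subtype.val (e.map_eq_one_iff.mp h))⟩
      obtain ⟨y, rfl⟩ := e.surjective y
      exact (show Commute y ⟨u, hle hu⟩ from Subtype.ext (huc _ ((hT y).mp hy))).map e
    have hz1 : z ≠ 1 := fun h => by rw [h, orderOf_one] at hz; omega
    obtain ⟨k1, k2⟩ := key z hzS hc hz1
    obtain ⟨k3, k4⟩ := key _ hz' (fun s hs => by
      have hs' : b⁻¹ * s * b ∈ (S : Subgroup PSL2) := (Subgroup.mem_normalizer_iff''.mp hb s).mp hs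
      have := (hc _ hs').map (MulAut.conj b).toMonoidHom
      simpa [MulAut.conj_apply, mul_assoc] using this) (fun h => hz1 (by simpa using h))
    exact congrArg Subtype.val (e.injective (central_unique _ hi hj hj2 k3 k1 k4 k2))

/-- In the small case the normalizer has index one or three over the Sylow subgroup. -/
theorem relIndex_dvd_three (S : Sylow 2 PSL2)
    (hfix : ∀ b ∈ Subgroup.normalizer ((S : Subgroup PSL2) : Set PSL2), b ∉ (S : Subgroup PSL2) →
        ∀ s ∈ (S : Subgroup PSL2), s ≠ 1 → b * s * b⁻¹ ≠ s) (h4 : Nat.card (S : Subgroup PSL2) = 4)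
    (hab : ∀ s ∈ (S : Subgroup PSL2), ∀ t ∈ (S : Subgroup PSL2), Commute s t) :
    (S : Subgroup PSL2).relIndex (Subgroup.normalizer ((S : Subgroup PSL2) : Set PSL2)) ∣ 3 := by
  classical
  haveI : Fact (Nat.Prime 2) := ⟨Nat.prime_two⟩
  set N := Subgroup.normalizer ((S : Subgroup PSL2) : Set PSL2)
  obtain ⟨z, hzS, hz, -⟩ := exists_central hodd S
  have hz1 : z ≠ 1 := fun h => by rw [h, orderOf_one] at hz; omega
  have hSN : (S : Subgroup PSL2) ≤ N := Subgroup.le_normalizer
  have hconj : ∀ b : N, (b : PSL2) * z * (b : PSL2)⁻¹ ∈ (S : Subgroup PSL2) := fun b =>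
    (Subgroup.mem_normalizer_iff.mp b.2 z).mp hzS
  let f : N ⧸ (S : Subgroup PSL2).subgroupOf N → {s : (S : Subgroup PSL2) // s ≠ 1} :=
    Quotient.lift (fun b => ⟨⟨_, hconj b⟩, fun h => hz1 (by
      have := congrArg Subtype.val h; simpa using this)⟩) fun a b hab' => by
      have hm : (a : PSL2)⁻¹ * b ∈ (S : Subgroup PSL2) :=
        Subgroup.mem_subgroupOf.mp (QuotientGroup.leftRel_apply.mp hab')
      refine Subtype.ext (Subtype.ext ?_)
      show (a : PSL2) * z * (a : PSL2)⁻¹ = b * z * (b : PSL2)⁻¹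
      calc (a : PSL2) * z * (a : PSL2)⁻¹ = a * (((a : PSL2)⁻¹ * b) * z * ((a : PSL2)⁻¹ * b)⁻¹) * (a : PSL2)⁻¹ := by
            rw [(hab _ hm z hzS).eq]; group
        _ = _ := by group
  have hf : Function.Injective f := by
    intro x y h
    induction x using Quotient.inductionOn with | _ a => ?_
    induction y using Quotient.inductionOn with | _ b => ?_
    have h' : (a : PSL2) * z * (a : PSL2)⁻¹ = b * z * (b : PSL2)⁻¹ := congrArg (fun u => (u.1 : PSL2)) h
    refine Quotient.sound (QuotientGroup.leftRel_apply.mpr ?_)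
    by_contra hne
    refine hfix _ (a⁻¹ * b : N).2 hne z hzS hz1 ?_
    calc ((a⁻¹ * b : N) : PSL2) * z * ((a⁻¹ * b : N) : PSL2)⁻¹
        = (a : PSL2)⁻¹ * (b * z * (b : PSL2)⁻¹) * a := by simp [mul_assoc]
      _ = z := by rw [← h']; group
  have hle : (S : Subgroup PSL2).relIndex N ≤ 3 := by
    refine (Nat.card_le_card_of_injective f hf).trans ?_
    haveI := Fintype.ofFinite (S : Subgroup PSL2)
    rw [Nat.card_eq_fintype_card, Fintype.card_subtype_compl, Fintype.card_subtype_eq,
      ← Nat.card_eq_fintype_card, h4]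
  have hodd' : ¬ 2 ∣ (S : Subgroup PSL2).relIndex N := fun h =>
    S.not_dvd_index (h.trans (Dvd.intro _ (Subgroup.relIndex_mul_index hSN)))
  have h0 : (S : Subgroup PSL2).relIndex N ≠ 0 := Subgroup.index_ne_zero_of_finite
  interval_cases h : (S : Subgroup PSL2).relIndex N <;> simp_all

/-- A normal complement to the Klein Sylow subgroup is cyclic. -/
theorem isCyclic_complement (S : Sylow 2 PSL2) (h4 : Nat.card (S : Subgroup PSL2) = 4)
    (hsq : ∀ s ∈ (S : Subgroup PSL2), s * s = 1) {K : Subgroup PSL2} (hSK : (S : Subgroup PSL2) ≤ K)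
    (O : Subgroup K) [O.Normal] (hO : Nat.card O * 4 = Nat.card K) (hOo : ¬ 2 ∣ Nat.card O) : IsCyclic O := by
  classical
  haveI : Fact (Nat.Prime 2) := ⟨Nat.prime_two⟩
  haveI : Fact (ringChar F).Prime := ⟨CharP.char_is_prime F (ringChar F)⟩
  have h8 : ¬ 8 ∣ Nat.card PSL2 := fun h => by
    rw [← (S : Subgroup PSL2).card_mul_index, h4] at h
    exact S.not_dvd_index (Nat.dvd_of_mul_dvd_mul_left (by norm_num : 0 < 4) (by simpa using h))
  have h3 : Nat.card K = 12 → IsCyclic O := fun h => by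
    haveI : Fact (Nat.Prime 3) := ⟨Nat.prime_three⟩
    exact isCyclic_of_prime_card (p := 3) (by omega)
  have hsimple : IsSimpleGroup K → Nat.card K ≠ 4 → False := fun hs hK => by
    rcases hs.eq_bot_or_eq_top_of_normal O inferInstance with h | h
    · rw [h, Subgroup.card_bot] at hO; omega
    · rw [h, Subgroup.card_top] at hO
      have := Nat.card_pos (α := K); omega
  rcases subType (ringChar F) K with ⟨k, -, hc, -⟩ | ⟨k, hk, ⟨e⟩⟩ | ⟨P, hP⟩ | ⟨⟨e⟩⟩ | ⟨⟨e⟩⟩ | ⟨⟨e⟩⟩ | ⟨L, hL⟩
  · exfalso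
    haveI := hc
    haveI : IsCyclic (S : Subgroup PSL2) :=
      isCyclic_of_injective (Subgroup.inclusion hSK) (Subgroup.inclusion_injective hSK)
    obtain ⟨g, hg⟩ := IsCyclic.exists_generator (α := (S : Subgroup PSL2))
    have h1 := orderOf_eq_card_of_forall_mem_zpowers hg
    have h2 : orderOf g ∣ 2 := orderOf_dvd_of_pow_eq_one (Subtype.ext (by
      rw [pow_two]; exact hsq g g.2))
    rw [h1, h4] at h2
    norm_num at h2
  · let f : O →* DihedralGroup k := e.toMonoidHom.comp O.subtype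
    have hrot : ∀ x : O, f x ∈ Subgroup.zpowers (r 1 : DihedralGroup k) := by
      intro x
      rcases hx : f x with j | j
      · obtain ⟨i, rfl⟩ := ZMod.intCast_surjective j
        exact ⟨i, by simp⟩
      · exfalso
        have h1 : orderOf (f x) = 2 := by rw [hx]; exact DihedralGroup.orderOf_sr j
        have h2 := (orderOf_map_dvd f x).trans (orderOf_dvd_natCard x)
        rw [h1] at h2
        exact hOo h2
    exact isCyclic_of_injective (f.codRestrict _ hrot) fun x y h =>
      O.subtype_injective (e.injective (congrArg Subtype.val h))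
  · exfalso
    have hd : 4 ∣ Nat.card (Subgroup.normalizer ((P : Subgroup PSL2) : Set PSL2)) :=
      h4 ▸ Subgroup.card_dvd_of_le (hSK.trans hP)
    have h1 := Subgroup.card_mul_index (Subgroup.normalizer ((P : Subgroup PSL2) : Set PSL2))
    rw [index_normalizer_sylow] at h1
    have h2 := two_card hodd
    rw [← h1, ← mul_assoc, ← mul_assoc] at h2
    have h2' := Nat.eq_of_mul_eq_mul_right (Nat.succ_pos _) h2
    obtain ⟨a, ha⟩ := hd
    have hq8 : 8 ∣ Fintype.card F - 1 := by
      refine Nat.Coprime.dvd_of_dvd_mul_left (m := Fintype.card F) ?_ ⟨a, ?_⟩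
      · exact Nat.Coprime.pow_left 3 ((Nat.prime_two.coprime_iff_not_dvd).mpr fun h => by omega)
      · rw [← h2', ha]; ring
    refine h8 ?_
    have h16 : 2 * 8 ∣ 2 * Nat.card PSL2 := by
      rw [two_card hodd]
      obtain ⟨b, hb⟩ : 2 ∣ Fintype.card F + 1 := Nat.dvd_iff_mod_eq_zero.mpr (by omega)
      obtain ⟨c, hc⟩ := hq8
      exact ⟨Fintype.card F * (c * b), by rw [hc, hb]; ring⟩
    exact Nat.dvd_of_mul_dvd_mul_left two_pos h16
  · exact h3 (by rw [Nat.card_congr e.toEquiv, card_alt4])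
  · exfalso
    exact h8 (Dvd.dvd.trans ⟨3, by rw [Nat.card_congr e.toEquiv, card_sym4]; rfl⟩ K.card_subgroup_dvd_card)
  · exfalso
    haveI := (alternatingGroup.isSimpleGroup_five : IsSimpleGroup (alternatingGroup (Fin 5)))
    refine hsimple (e.isSimpleGroup) ?_
    rw [Nat.card_congr e.toEquiv, Nat.card_eq_fintype_card]
    decide
  · haveI := Fintype.ofFinite L
    have hLodd : Fintype.card L % 2 = 1 := by
      have h : Fintype.card F = Fintype.card L ^ Module.finrank L F := Module.card_eq_pow_finrank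
      rw [h] at hodd
      by_contra hne
      rw [Nat.pow_mod, show Fintype.card L % 2 = 0 by omega,
        zero_pow (Nat.pos_iff_ne_zero.mp Module.finrank_pos)] at hodd
      simp at hodd
    have h1 := Fintype.one_lt_card (α := L)
    have hsq' : Fintype.card L ^ 2 - 1 = (Fintype.card L - 1) * (Fintype.card L + 1) := by
      have := Nat.sq_sub_sq (Fintype.card L) 1
      rw [one_pow] at this
      rw [this, mul_comm]
    rcases hL with ⟨⟨e⟩⟩ | ⟨⟨e⟩⟩
    · have hP := Cfsg.Agent.Lib.Classical.card_PSL2_mul (F := L)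
      rw [show Nat.gcd 2 (Fintype.card L - 1) = 2 from Nat.gcd_eq_left (Nat.dvd_iff_mod_eq_zero.mpr (by omega)),
        ← Nat.card_congr e.toEquiv] at hP
      by_cases h4L : 4 ≤ Fintype.card L
      · exfalso
        haveI : IsSimpleGroup (Matrix.ProjectiveSpecialLinearGroup (Fin 2) L) :=
          Matrix.ProjectiveSpecialLinearGroup.rank_two_simple (by rw [Nat.card_eq_fintype_card]; exact h4L)
        refine hsimple (e.isSimpleGroup) fun hK => ?_
        rw [hK, hsq'] at hP
        have : 4 * (3 * 5) ≤ Fintype.card L * ((Fintype.card L - 1) * (Fintype.card L + 1)) :=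
          Nat.mul_le_mul h4L (Nat.mul_le_mul (by omega) (by omega))
        omega
      · refine h3 ?_
        rw [show Fintype.card L = 3 by omega] at hP
        rw [show 3 * (3 ^ 2 - 1) = 24 from rfl] at hP
        omega
    · exfalso
      refine h8 (Dvd.dvd.trans ?_ K.card_subgroup_dvd_card)
      rw [Nat.card_congr e.toEquiv, Cfsg.Agent.Lib.Classical.card_PGL, Cfsg.Agent.Lib.Classical.card_SL2, hsq']
      obtain ⟨a, ha⟩ : 2 ∣ Fintype.card L - 1 := Nat.dvd_iff_mod_eq_zero.mpr (by omega)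
      have hb : Fintype.card L + 1 = 2 * (a + 1) := by omega
      rw [ha, hb]
      obtain ⟨c, hc⟩ := even_iff_two_dvd.mp (Nat.even_mul_succ_self a)
      exact ⟨Fintype.card L * c, by rw [show 2 * a * (2 * (a + 1)) = 4 * (a * (a + 1)) by ring, hc]; ring⟩

/-- Overgroups of Sylow 2-subgroups of `PSL₂(q)`, `q` odd, are pronormal. -/
theorem allPro : AllPro 2 PSL2 := by
  classical
  haveI : Fact (Nat.Prime 2) := ⟨Nat.prime_two⟩
  obtain ⟨S⟩ : Nonempty (Sylow 2 PSL2) := inferInstance
  refine allPro_of_normalizer S fun H hH b hb => ?_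
  by_cases hbS : b ∈ (S : Subgroup PSL2)
  · exact ⟨1, one_mem _, by rw [cj_self (hH hbS), cj_one]⟩
  obtain ⟨h4, hsq, hab, hfix⟩ := (normalizer_cases hodd S).resolve_left fun h => hbS (h hb)
  set N := Subgroup.normalizer ((S : Subgroup PSL2) : Set PSL2)
  set K := H ⊔ cj b H with hK
  have hSK : (S : Subgroup PSL2) ≤ K := hH.trans le_sup_left
  have hdvd : (S : Subgroup PSL2).relIndex (N ⊓ K) * (N ⊓ K).relIndex N ∣ 3 := by
    rw [Subgroup.relIndex_mul_relIndex _ _ _ (le_inf Subgroup.le_normalizer hSK) inf_le_left]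
    exact relIndex_dvd_three hodd S hfix h4 hab
  rcases (Nat.dvd_prime Nat.prime_three).mp (Dvd.dvd.trans (Dvd.intro _ rfl) hdvd) with h1 | h1
  swap
  · refine ⟨b, ?_, rfl⟩
    have : (N ⊓ K).relIndex N = 1 := by
      rw [h1] at hdvd
      exact Nat.dvd_one.mp (Nat.dvd_of_mul_dvd_mul_left (by norm_num : 0 < 3) (by simpa using hdvd))
    exact (Subgroup.relIndex_eq_one.mp this hb).2
  have hNK : N ⊓ K ≤ (S : Subgroup PSL2) := Subgroup.relIndex_eq_one.mp h1
  set P : Sylow 2 K := S.subtype hSK with hP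
  have hPmem : ∀ x : K, x ∈ (P : Subgroup K) ↔ (x : PSL2) ∈ (S : Subgroup PSL2) := fun x => by
    rw [hP, Sylow.coe_subtype]; rfl
  have hburn : Subgroup.normalizer ((P : Subgroup K) : Set K) ≤ Subgroup.centralizer ((P : Subgroup K) : Set K) := by
    intro x hx
    have hxN : (x : PSL2) ∈ N := Subgroup.mem_normalizer_iff.mpr fun s => ⟨fun hs => by
        have := (Subgroup.mem_normalizer_iff.mp hx ⟨s, hSK hs⟩).mp ((hPmem _).mpr hs)
        exact (hPmem _).mp this, fun hs => by
        have hsK : s ∈ K := by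
          have := K.mul_mem (K.mul_mem (K.inv_mem x.2) (hSK hs)) x.2
          simpa [mul_assoc] using this
        exact (hPmem ⟨s, hsK⟩).mp ((Subgroup.mem_normalizer_iff.mp hx ⟨s, hsK⟩).mpr ((hPmem _).mpr hs))⟩
    refine Subgroup.mem_centralizer_iff.mpr fun y hy => Subtype.ext ?_
    exact (hab _ ((hPmem y).mp hy) _ (hNK ⟨hxN, x.2⟩)).eq
  set f := MonoidHom.transferSylow P hburn with hf
  have hcompl := MonoidHom.ker_transferSylow_isComplement' P hburn
  have hPc : Nat.card (P : Subgroup K) = 4 := by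
    rw [hP, Sylow.coe_subtype, Nat.card_congr (Subgroup.subgroupOfEquivOfLe hSK).toEquiv, h4]
  have hO : Nat.card f.ker * 4 = Nat.card K := by
    rw [← hPc]; exact hcompl.card_mul
  haveI := isCyclic_complement hodd S h4 hsq hSK f.ker hO
    (MonoidHom.not_dvd_card_ker_transferSylow P hburn)
  -- the two subgroups are recovered from their intersections with the complement
  have key : ∀ A : Subgroup PSL2, (S : Subgroup PSL2) ≤ A → A ≤ K →
      Nat.card ((A.subgroupOf K).subgroupOf f.ker) * 4 = Nat.card A ∧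
      A.subgroupOf K = (A.subgroupOf K ⊓ f.ker) ⊔ (P : Subgroup K) := by
    intro A hSA hAK
    have hPA : (P : Subgroup K) ≤ A.subgroupOf K := fun x hx => hSA ((hPmem x).mp hx)
    have hsplit : A.subgroupOf K = (A.subgroupOf K ⊓ f.ker) ⊔ (P : Subgroup K) := by
      refine le_antisymm (fun x hx => ?_) (sup_le inf_le_left hPA)
      obtain ⟨⟨o, p⟩, hop⟩ := hcompl.2 x
      change (o : K) * (p : K) = x at hop
      subst hop
      refine Subgroup.mul_mem_sup ⟨?_, o.2⟩ p.2
      have := mul_mem hx (inv_mem (hPA p.2))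
      rwa [mul_inv_cancel_right] at this
    refine ⟨?_, hsplit⟩
    have h2 : f.ker.relIndex (A.subgroupOf K) = 4 := by
      have hbij : f.ker.relIndex (P : Subgroup K) = 4 := by
        rw [← hPc, Subgroup.relIndex, Subgroup.subgroupOf_eq_bot.mpr hcompl.disjoint, Subgroup.index_bot]
      refine le_antisymm ?_ ?_
      · have := Nat.le_of_dvd (Nat.pos_of_ne_zero Subgroup.index_ne_zero_of_finite)
          (Subgroup.relIndex_dvd_index_of_normal f.ker (A.subgroupOf K))
        rw [hcompl.symm.index_eq_card, hPc] at this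
        exact this
      · exact hbij ▸ Subgroup.relIndex_le_of_le_right hPA Subgroup.index_ne_zero_of_finite
    have h3 := Subgroup.card_mul_index (f.ker.subgroupOf (A.subgroupOf K))
    rw [show (f.ker.subgroupOf (A.subgroupOf K)).index = 4 from h2,
      Nat.card_congr (Subgroup.subgroupOfEquivOfLe hAK).toEquiv] at h3
    rw [← h3]
    congr 1
    rw [← Subgroup.inf_subgroupOf_right (A.subgroupOf K), ← Subgroup.inf_subgroupOf_right f.ker,
      Nat.card_congr (Subgroup.subgroupOfEquivOfLe inf_le_right).toEquiv,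
      Nat.card_congr (Subgroup.subgroupOfEquivOfLe inf_le_right).toEquiv, inf_comm]
  obtain ⟨c1, s1⟩ := key H hH le_sup_left
  obtain ⟨c2, s2⟩ := key (cj b H) ((cj_iff.mpr hb).ge.trans (cj_mono b hH)) le_sup_right
  have hcard : Nat.card (cj b H) = Nat.card H :=
    (Nat.card_congr (Subgroup.equivMapOfInjective H _ (MulEquiv.injective _)).toEquiv).symm
  have heq : (H.subgroupOf K).subgroupOf f.ker = ((cj b H).subgroupOf K).subgroupOf f.ker :=
    eq_of_card (by rw [hcard] at c2; omega)
  have hinf := Subgroup.subgroupOf_inj.mp heq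
  refine ⟨1, one_mem _, ?_⟩
  rw [cj_one]
  have : (cj b H).subgroupOf K = H.subgroupOf K := by rw [s2, s1, hinf]
  have h' := congrArg (Subgroup.map K.subtype) this
  rwa [Subgroup.map_subgroupOf_eq_of_le le_sup_right, Subgroup.map_subgroupOf_eq_of_le le_sup_left] at h'

end Cfsg.Agent.Lib.PronormalPSL.Two
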