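import Cfsg.Agent.Lib.PronormalPSL.Plane
import Cfsg.Agent.Lib.Classical.SUTwo

/-!
Overgroups of Sylow 2-subgroups of `SU_{2m}(q)`, `q` odd and `m` a power of two, are pronormal.
-/

set_option autoImplicit false
set_option linter.style.haveILetI false

namespace Cfsg.Agent.Lib.PronormalPSL.Unitary

open Matrix
open Cfsg.Agent.Lib.FusionControl
open Cfsg.Agent.Lib.FusionControl.BlockDiag (bd pm bdM pmM coe_bd coe_pm)
open GLTwoNorm (sc det_sc)

variable {F : Type*} [Field F] [Fintype F]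

/-- The unitary group of the standard form. -/
def GU {ι : Type*} [Fintype ι] [DecidableEq ι] (σ : F →+* F) : Subgroup (GL ι F) where
  carrier := {g | (g : Matrix ι ι F)ᵀ * (g : Matrix ι ι F).map σ = 1}
  one_mem' := by simp
  mul_mem' := fun {a b} ha hb => by
    show ((a * b : GL ι F) : Matrix ι ι F)ᵀ * ((a * b : GL ι F) : Matrix ι ι F).map σ = 1
    rw [Units.val_mul, Matrix.transpose_mul, Matrix.map_mul, Matrix.mul_assoc,
      ← Matrix.mul_assoc (a : Matrix ι ι F)ᵀ, (ha : (a : Matrix ι ι F)ᵀ * (a : Matrix ι ι F).map σ = 1),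
      Matrix.one_mul]
    exact hb
  inv_mem' := fun {a} ha => by
    show ((a⁻¹ : GL ι F) : Matrix ι ι F)ᵀ * ((a⁻¹ : GL ι F) : Matrix ι ι F).map σ = 1
    calc _ = ((a⁻¹ : GL ι F) : Matrix ι ι F)ᵀ * ((a : Matrix ι ι F)ᵀ * (a : Matrix ι ι F).map σ) *
          ((a⁻¹ : GL ι F) : Matrix ι ι F).map σ := by
            rw [(ha : (a : Matrix ι ι F)ᵀ * (a : Matrix ι ι F).map σ = 1), Matrix.mul_one]
      _ = (((a : GL ι F) : Matrix ι ι F) * ((a⁻¹ : GL ι F) : Matrix ι ι F))ᵀ *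
          (((a : GL ι F) : Matrix ι ι F) * ((a⁻¹ : GL ι F) : Matrix ι ι F)).map σ := by
            rw [Matrix.transpose_mul, Matrix.map_mul]; simp only [Matrix.mul_assoc]
      _ = 1 := by rw [← Units.val_mul, mul_inv_cancel, Units.val_one]; simp

theorem mem_GU {ι : Type*} [Fintype ι] [DecidableEq ι] {σ : F →+* F} {g : GL ι F} :
    g ∈ GU σ ↔ (g : Matrix ι ι F)ᵀ * (g : Matrix ι ι F).map σ = 1 := Iff.rfl

/-- The units of norm one. -/
def normOne (σ : F →+* F) : Subgroup Fˣ where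
  carrier := {x | (x : F) * σ x = 1}
  one_mem' := by simp
  mul_mem' := fun {a b} ha hb => by
    show ((a * b : Fˣ) : F) * σ ((a * b : Fˣ) : F) = 1
    rw [Units.val_mul, map_mul, mul_mul_mul_comm, show (a : F) * σ a = 1 from ha, show (b : F) * σ b = 1 from hb,
      one_mul]
  inv_mem' := fun {a} ha => by
    show ((a⁻¹ : Fˣ) : F) * σ ((a⁻¹ : Fˣ) : F) = 1
    rw [Units.val_inv_eq_inv_val, map_inv₀, ← mul_inv, show (a : F) * σ a = 1 from ha, inv_one]

theorem sc_mem {σ : F →+* F} {μ : Fˣ} : sc μ ∈ GU (ι := Fin 2) σ ↔ μ ∈ normOne σ := by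
  show (Matrix.scalar (Fin 2) (μ : F))ᵀ * (Matrix.scalar (Fin 2) (μ : F)).map σ = 1 ↔ (μ : F) * σ μ = 1
  rw [Matrix.scalar_apply, Matrix.diagonal_transpose, Matrix.diagonal_map (map_zero _), Matrix.diagonal_mul_diagonal,
    ← Matrix.diagonal_one]
  exact ⟨fun h => congrFun (Matrix.diagonal_injective h) 0, fun h => congrArg _ (funext fun _ => h)⟩

theorem det_mem {σ : F →+* F} {g : GL (Fin 2) F} (hg : g ∈ GU σ) : GeneralLinearGroup.det g ∈ normOne σ := by
  show ((GeneralLinearGroup.det g : Fˣ) : F) * σ ((GeneralLinearGroup.det g : Fˣ) : F) = 1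
  rw [GeneralLinearGroup.val_det_apply, RingHom.map_det]
  calc (g : Matrix (Fin 2) (Fin 2) F).det * ((g : Matrix (Fin 2) (Fin 2) F).map σ).det
      = ((g : Matrix (Fin 2) (Fin 2) F)ᵀ * (g : Matrix (Fin 2) (Fin 2) F).map σ).det := by
        rw [Matrix.det_mul, Matrix.det_transpose]
    _ = 1 := by rw [mem_GU.mp hg, Matrix.det_one]

/-- The plane of `GU₂(q)`. -/
theorem planeData_GU {q : ℕ} (hF : Fintype.card F = q ^ 2) (ho : Odd (Fintype.card F)) :
    ∃ R : Subgroup (GL (Fin 2) F), R ≤ GU (Classical.conjHom hF) ∧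
      Wreath.PlaneData (GU (Classical.conjHom hF)) R := by
  classical
  obtain ⟨p, f, hp, hc, hq⟩ := Classical.exists_q_pow hF
  haveI : Fact p.Prime := ⟨hp⟩
  have hf : f ≠ 0 := fun h => by
    have := Classical.two_le_q hF
    rw [hq, h] at this
    simp at this
  haveI : Fintype (GaloisField p f) := Fintype.ofFinite _
  have hK : Fintype.card (GaloisField p f) = q := by
    rw [← Nat.card_eq_fintype_card, GaloisField.card p f hf, hq]
  have hKo : Odd (Fintype.card (GaloisField p f)) := by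
    rw [hK]
    rw [hF] at ho
    exact (Nat.odd_pow_iff two_ne_zero).mp ho
  obtain ⟨e⟩ := Classical.nonempty_SU2_mulEquiv_SL2 hF hK
  set σ := Classical.conjHom hF with hσ
  let ι : Matrix.SpecialLinearGroup (Fin 2) (GaloisField p f) →* GL (Fin 2) F :=
    (SpecialLinearGroup.toGL.comp (Cfsg.SU 2 F q).subtype).comp e.symm.toMonoidHom
  have hι : Function.Injective ι :=
    (SpecialLinearGroup.toGL_injective.comp Subtype.val_injective).comp e.symm.injective
  have hrange : ι.range = GU σ ⊓ (GeneralLinearGroup.det : GL (Fin 2) F →* Fˣ).ker := by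
    ext g
    constructor
    · rintro ⟨u, rfl⟩
      exact ⟨(Classical.mem_SU_iff hF _).mp (e.symm u).2, BlockDiag.range_toGL_ker.le ⟨_, rfl⟩⟩
    · rintro ⟨h1, h2⟩
      obtain ⟨A, rfl⟩ := BlockDiag.range_toGL_ker.ge h2
      have hA : A ∈ Cfsg.SU 2 F q := (Classical.mem_SU_iff hF _).mpr h1
      exact ⟨e ⟨A, hA⟩, by simp [ι]⟩
  have h2 : (2 : F) ≠ 0 := BlockDiag.odd_ne_two ho
  have hneg : (-1 : Fˣ) ∈ normOne σ := by
    show ((-1 : Fˣ) : F) * σ ((-1 : Fˣ) : F) = 1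
    rw [Units.val_neg, Units.val_one, map_neg, map_one, neg_mul_neg, one_mul]
  obtain ⟨ν, hν1, ⟨v, hv⟩, hν⟩ := GLTwoNorm.exists_nonsquare h2 (normOne σ) hneg
  refine Plane.exists_planeData ho hKo (GU σ) ι hι hrange
    (fun x hx => sc_mem.mpr (inv_mem (det_mem hx))) ?_
  let g : GL (Fin 2) F := Units.map (Matrix.diagonalRingHom (Fin 2) F).toMonoidHom
    (MulEquiv.piUnits.symm ![ν, 1])
  have hg : (g : Matrix (Fin 2) (Fin 2) F) = Matrix.diagonal ![(ν : F), 1] := by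
    show Matrix.diagonal _ = _
    congr 1
    funext i
    fin_cases i <;> simp [MulEquiv.piUnits]
  refine ⟨g, ?_, ⟨v, ?_⟩, fun μ hμ h => hν μ (sc_mem.mp hμ) ?_⟩
  · rw [mem_GU, hg, Matrix.diagonal_transpose, Matrix.diagonal_map (map_zero _), Matrix.diagonal_mul_diagonal,
      ← Matrix.diagonal_one]
    congr 1
    funext i
    fin_cases i
    · exact hν1
    · simp
  · show Units.map _ _ ^ 2 ^ v = 1
    rw [← map_pow, ← map_pow, show (![ν, 1] : Fin 2 → Fˣ) ^ 2 ^ v = 1 from funext fun i => by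
      fin_cases i <;> simp [hv], map_one, map_one]
  · rw [← h]
    refine Units.ext ?_
    rw [GeneralLinearGroup.val_det_apply, hg, Matrix.det_diagonal, Fin.prod_univ_two]
    simp

variable {m : ℕ}

theorem bdM_transpose (v : Fin m → Matrix (Fin 2) (Fin 2) F) : (bdM v)ᵀ = bdM fun i => (v i)ᵀ := by
  simp [bdM, Matrix.fromBlocks_transpose]

theorem bdM_map (σ : F →+* F) (v : Fin m → Matrix (Fin 2) (Fin 2) F) : (bdM v).map σ = bdM fun i => (v i).map σ := by
  simp [bdM, Matrix.fromBlocks_map]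

theorem pm_mem (σ : F →+* F) (τ : Equiv.Perm (Fin m)) : (pm τ : GL (Fin m ⊕ Fin m) F) ∈ GU σ := by
  rw [mem_GU, coe_pm]
  have e : (pmM τ : Matrix (Fin m ⊕ Fin m) (Fin m ⊕ Fin m) F).map σ = pmM τ := by
    ext (i | i) (j | j) <;> by_cases h : τ.symm i = j <;>
      simp [pmM, PEquiv.toMatrix_apply, h]
  have e2 : (pmM τ : Matrix (Fin m ⊕ Fin m) (Fin m ⊕ Fin m) F)ᵀ = pmM τ⁻¹ := by
    simp [pmM, Matrix.fromBlocks_transpose, Matrix.transpose_permMatrix]
  rw [e, e2, ← map_mul, inv_mul_cancel, map_one]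

theorem bd_mem_iff (σ : F →+* F) (X : Fin m → GL (Fin 2) F) :
    (bd X : GL (Fin m ⊕ Fin m) F) ∈ GU σ ↔ ∀ i, X i ∈ GU σ := by
  rw [mem_GU, coe_bd, bdM_transpose, bdM_map, ← map_mul]
  constructor
  · intro h i
    rw [mem_GU]
    ext a b
    have h' := congrFun (congrFun h (Wreath.idx i a)) (Wreath.idx i b)
    fin_cases a <;> fin_cases b <;> simpa [bdM, Wreath.idx, Matrix.mul_apply, Fin.sum_univ_two, Matrix.one_apply] using h'
  · intro h
    rw [show ((fun i => (X i : Matrix (Fin 2) (Fin 2) F)ᵀ) * fun i => (X i : Matrix (Fin 2) (Fin 2) F).map σ) = 1 from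
      funext fun i => mem_GU.mp (h i), map_one]

/-- Overgroups of Sylow 2-subgroups of `SU_{2ʷ}(q)`, `q` odd, are pronormal. -/
theorem allPro_SU {q : ℕ} (hF : Fintype.card F = q ^ 2) (ho : Odd (Fintype.card F)) {k : ℕ} (hk : 1 ≤ k)
    [Finite (Cfsg.SU (2 ^ (k + 1)) F q)] :
    PGroups.Pronormal.AllPro 2 ↥(Cfsg.SU (2 ^ (k + 1)) F q) := by
  classical
  obtain ⟨R, hRΓ, pd⟩ := planeData_GU hF ho
  obtain ⟨W⟩ : Nonempty (Sylow 2 (Equiv.Perm (Fin (2 ^ k)))) := inferInstance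
  set e : Fin (2 ^ k) ⊕ Fin (2 ^ k) ≃ Fin (2 ^ (k + 1)) :=
    finSumFinEquiv.trans (finCongr (show 2 ^ k + 2 ^ k = 2 ^ (k + 1) by rw [pow_succ]; omega))
  let f : ↥(Cfsg.SU (2 ^ (k + 1)) F q) →* GL (Fin (2 ^ k) ⊕ Fin (2 ^ k)) F :=
    (SpecialLinearGroup.toGL.comp (BlockDiag.slReindex e.symm).toMonoidHom).comp (Cfsg.SU (2 ^ (k + 1)) F q).subtype
  have hcoe : ∀ A : ↥(Cfsg.SU (2 ^ (k + 1)) F q), (f A : Matrix _ _ F) =
      (A.1 : Matrix (Fin (2 ^ (k + 1))) (Fin (2 ^ (k + 1))) F).submatrix e e := fun A => rfl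
  have hmem : ∀ A : ↥(Cfsg.SU (2 ^ (k + 1)) F q), f A ∈ GU (Classical.conjHom hF) := fun A => by
    rw [mem_GU, hcoe, Matrix.transpose_submatrix, ← Matrix.submatrix_map, Matrix.submatrix_mul_equiv,
      (Classical.mem_SU_iff hF A.1).mp A.2, Matrix.submatrix_one_equiv]
  refine Wreath.allPro ho hk pd W f
    ((SpecialLinearGroup.toGL_injective.comp (BlockDiag.slReindex e.symm).injective).comp Subtype.val_injective)
    (fun a => BlockDiag.range_toGL_ker.le ⟨_, rfl⟩) ?_ fun A X τ h => ?_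
  · rintro g ⟨hg, hgd⟩
    have hgU : g ∈ GU (Classical.conjHom hF) := by
      obtain ⟨v, hv, τ, -, rfl⟩ := WreathSquares.exists_of_mem bd pm BlockDiag.pm_conj _ _ hg
      exact mul_mem ((bd_mem_iff _ v).mpr fun i => hRΓ (hv i)) (pm_mem _ τ)
    obtain ⟨A, rfl⟩ := BlockDiag.range_toGL_ker.ge hgd
    have hA : BlockDiag.slReindex e A ∈ Cfsg.SU (2 ^ (k + 1)) F q := by
      rw [Classical.mem_SU_iff hF]
      show ((A : Matrix _ _ F).submatrix e.symm e.symm)ᵀ * ((A : Matrix _ _ F).submatrix e.symm e.symm).map _ = 1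
      rw [Matrix.transpose_submatrix, ← Matrix.submatrix_map, Matrix.submatrix_mul_equiv,
        show A.1ᵀ * A.1.map (Classical.conjHom hF) = 1 from hgU,
        Matrix.submatrix_one_equiv]
    refine ⟨⟨_, hA⟩, Units.ext ?_⟩
    rw [hcoe]
    show ((A : Matrix _ _ F).submatrix e.symm e.symm).submatrix e e = _
    simp
  · intro i
    refine (bd_mem_iff _ X).mp ?_ i
    have hA := hmem A
    rw [h] at hA
    have := mul_mem hA (inv_mem (pm_mem (Classical.conjHom hF) τ))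
    rwa [mul_inv_cancel_right] at this

end Cfsg.Agent.Lib.PronormalPSL.Unitary
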