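import Cfsg.Agent.Lib.PronormalPSL.GLTwoNorm
import Cfsg.Agent.Lib.KnownA.SylowTwo

/-!
Wreath products of a 2-group on planes with a Sylow 2-subgroup of `S_m`, `m` a power of two: their
determinant one parts are self-normalizing in the classical groups on `m` orthogonal planes.
-/

set_option autoImplicit false
set_option linter.style.haveILetI false
set_option linter.unusedSectionVars false

namespace Cfsg.Agent.Lib.PronormalPSL.Wreath

open Matrix Equiv
open Cfsg.Agent.Lib.FusionControl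
open Cfsg.Agent.Lib.FusionControl.BlockDiag (bd pm bdM pmM pm_conj bd_pm_eq_one coe_bd coe_pm det_bd det_pm pair det_pair)
open Cfsg.Agent.Lib.FusionControl.WreathSquares (wreath exists_of_mem)

variable {F : Type*} [Field F] [Fintype F] {m : ℕ}

local notation "GL2" => GL (Fin 2) F
local notation "GLm" => GL (Fin m ⊕ Fin m) F
local notation "M2" => Matrix (Fin 2) (Fin 2) F

/-- The indices of the plane `i`. -/
def idx (i : Fin m) : Fin 2 → Fin m ⊕ Fin m := ![Sum.inl i, Sum.inr i]

theorem idx_surj (x : Fin m ⊕ Fin m) : ∃ i a, idx i a = x := by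
  rcases x with i | i
  · exact ⟨i, 0, rfl⟩
  · exact ⟨i, 1, rfl⟩

theorem idx_inj {i j : Fin m} {a b : Fin 2} : idx i a = idx j b ↔ i = j ∧ a = b := by
  fin_cases a <;> fin_cases b <;> simp [idx]

/-- The entries of a monomial block matrix. -/
theorem entry (v : Fin m → GL2) (σ : Perm (Fin m)) (i j : Fin m) (a b : Fin 2) :
    ((bd v * pm σ : GLm) : Matrix (Fin m ⊕ Fin m) (Fin m ⊕ Fin m) F) (idx i a) (idx j b) =
      if i = σ j then (v i : M2) a b else 0 := by
  rw [Units.val_mul, coe_bd, coe_pm]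
  simp only [bdM, pmM, MonoidHom.coe_mk, OneHom.coe_mk, fromBlocks_multiply, Matrix.mul_zero, add_zero, zero_add]
  have key : ∀ d : Fin m → F, (diagonal d * σ⁻¹.permMatrix F) i j = if i = σ j then d i else 0 := by
    intro d
    rw [Matrix.diagonal_mul]
    by_cases h : i = σ j
    · rw [if_pos h]
      have : σ⁻¹.permMatrix F i j = 1 := by simp [PEquiv.toMatrix_apply, h]
      rw [this, mul_one]
    · rw [if_neg h]
      have hne : σ.symm i ≠ j := fun e => h ((Equiv.symm_apply_eq σ).mp e)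
      have : σ⁻¹.permMatrix F i j = 0 := by simp [PEquiv.toMatrix_apply, hne]
      rw [this, mul_zero]
  fin_cases a <;> fin_cases b <;> simp [idx, key]

theorem decomp_inj {v v' : Fin m → GL2} {σ σ' : Perm (Fin m)} (h : bd v * pm σ = (bd v' * pm σ' : GLm)) :
    v = v' ∧ σ = σ' := by
  have e : bd (v'⁻¹ * v) * pm (σ * σ'⁻¹) = (1 : GLm) := by
    rw [map_mul, map_mul, map_inv, map_inv, mul_assoc, ← mul_assoc (bd v), h]
    group
  obtain ⟨h1, h2⟩ := bd_pm_eq_one _ _ e
  exact ⟨(inv_mul_eq_one.mp h1).symm, mul_inv_eq_one.mp h2⟩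

theorem mul_decomp (v v' : Fin m → GL2) (σ σ' : Perm (Fin m)) :
    (bd v * pm σ) * (bd v' * pm σ') = (bd (v * fun i => v' (σ⁻¹ i)) * pm (σ * σ') : GLm) := by
  rw [map_mul, map_mul, ← pm_conj σ v']
  group

theorem conj_bd (u v : Fin m → GL2) (σ : Perm (Fin m)) :
    bd u * (bd v * pm σ) * (bd u)⁻¹ = (bd (fun i => u i * v i * (u (σ⁻¹ i))⁻¹) * pm σ : GLm) := by
  rw [show (fun i => u i * v i * (u (σ⁻¹ i))⁻¹) = u * v * (fun i => u⁻¹ (σ⁻¹ i)) from rfl, map_mul, map_mul,
    ← pm_conj σ u⁻¹, map_inv]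
  group

theorem conj_pm (τ : Perm (Fin m)) (v : Fin m → GL2) (σ : Perm (Fin m)) :
    pm τ * (bd v * pm σ) * (pm τ)⁻¹ = (bd (fun i => v (τ⁻¹ i)) * pm (τ * σ * τ⁻¹) : GLm) := by
  rw [← pm_conj τ v, map_mul, map_mul, map_inv]
  group

theorem involution_data {v : Fin m → GL2} {σ : Perm (Fin m)} (h : (bd v * pm σ : GLm) * (bd v * pm σ) = 1) :
    σ * σ = 1 ∧ ∀ i, v i * v (σ⁻¹ i) = 1 := by
  rw [mul_decomp] at h
  obtain ⟨h1, h2⟩ := bd_pm_eq_one _ _ h
  exact ⟨h2, fun i => congrFun h1 i⟩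

/-- The element `-1` on the plane `i`. -/
def zz (i : Fin m) : GLm := bd (Pi.mulSingle i (-1))

/-- The matrix of `zz` is diagonal. -/
theorem coe_zz (i : Fin m) : ((zz i : GLm) : Matrix (Fin m ⊕ Fin m) (Fin m ⊕ Fin m) F) =
    diagonal fun x => if Sum.elim id id x = i then -1 else 1 := by
  ext x y
  obtain ⟨k, a, rfl⟩ := idx_surj x
  obtain ⟨l, b, rfl⟩ := idx_surj y
  have h := entry (F := F) (Pi.mulSingle i (-1)) 1 k l a b
  rw [map_one, mul_one, Perm.one_apply] at h
  rw [show ((zz i : GLm) : Matrix (Fin m ⊕ Fin m) (Fin m ⊕ Fin m) F) (idx k a) (idx l b) = _ from h,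
    Matrix.diagonal_apply]
  have he : ∀ (k : Fin m) (a : Fin 2), Sum.elim id id (idx k a) = k := fun k a => by fin_cases a <;> rfl
  rw [he]
  by_cases hkl : k = l
  · subst hkl
    by_cases hki : k = i
    · subst hki
      by_cases hab : a = b
      · subst hab; simp
      · simp [idx_inj, hab]
    · by_cases hab : a = b
      · subst hab; simp [hki]
      · simp [idx_inj, hab, hki]
  · simp [idx_inj, hkl]

theorem rank_zz (i : Fin m) :
    ((((zz i : GLm) : Matrix (Fin m ⊕ Fin m) (Fin m ⊕ Fin m) F) - 1)).rank ≤ 2 := by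
  classical
  let E : Matrix (Fin m ⊕ Fin m) (Fin 2) F := Matrix.of fun x a => if x = idx i a then 1 else 0
  have e : ((zz i : GLm) : Matrix (Fin m ⊕ Fin m) (Fin m ⊕ Fin m) F) - 1 = E * ((-2 : F) • Eᵀ) := by
    rw [coe_zz, ← diagonal_one, diagonal_sub]
    ext x y
    obtain ⟨k, a, rfl⟩ := idx_surj x
    obtain ⟨l, b, rfl⟩ := idx_surj y
    have he : ∀ (k : Fin m) (a : Fin 2), Sum.elim id id (idx k a) = k := fun k a => by fin_cases a <;> rfl
    rw [Matrix.diagonal_apply, he, Matrix.mul_apply, Fin.sum_univ_two]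
    simp only [E, Matrix.smul_apply, Matrix.transpose_apply, Matrix.of_apply, smul_eq_mul, idx_inj]
    by_cases hki : k = i <;> by_cases hli : l = i <;> by_cases hkl : k = l <;> fin_cases a <;> fin_cases b <;>
      simp_all <;> ring
  rw [e]
  exact (Matrix.rank_mul_le_left _ _).trans (E.rank_le_card_width.trans (Fintype.card_fin 2).le)

theorem rank_conj (h y : GLm) :
    (((h * y * h⁻¹ : GLm) : Matrix (Fin m ⊕ Fin m) (Fin m ⊕ Fin m) F) - 1).rank ≤
      (((y : GLm) : Matrix (Fin m ⊕ Fin m) (Fin m ⊕ Fin m) F) - 1).rank := by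
  have e : ((h * y * h⁻¹ : GLm) : Matrix (Fin m ⊕ Fin m) (Fin m ⊕ Fin m) F) - 1 =
      (h : Matrix (Fin m ⊕ Fin m) (Fin m ⊕ Fin m) F) * ((y : Matrix (Fin m ⊕ Fin m) (Fin m ⊕ Fin m) F) - 1) *
        ((h⁻¹ : GLm) : Matrix (Fin m ⊕ Fin m) (Fin m ⊕ Fin m) F) := by
    rw [mul_sub, mul_one, sub_mul, Units.val_mul, Units.val_mul, ← Units.val_mul h h⁻¹, mul_inv_cancel,
      Units.val_one]
  rw [e]
  exact (Matrix.rank_mul_le_left _ _).trans (Matrix.rank_mul_le_right _ _)

/-- The planes an element of small rank lives on. -/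
noncomputable def supp (v : Fin m → GL2) (σ : Perm (Fin m)) : Finset (Fin m) :=
  letI := Classical.decEq (GL (Fin 2) F)
  if σ = 1 then Finset.univ.filter (fun i => v i ≠ 1) else σ.support

theorem exists_entry_ne {c : GL2} (hc : c ≠ 1) : ∃ a b, (c : M2) a b - (1 : M2) a b ≠ 0 := by
  by_contra h
  push Not at h
  exact hc (Units.ext (Matrix.ext fun a b => sub_eq_zero.mp (h a b)))

/-- Three planes cannot be moved. -/
theorem not_three {v : Fin m → GL2} (hr : (((bd v * pm 1 : GLm) : Matrix (Fin m ⊕ Fin m) (Fin m ⊕ Fin m) F) - 1).rank ≤ 2)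
    {p : Fin 3 → Fin m} {a b : Fin 3 → Fin 2} (hd : ∀ s t, s ≠ t → p s ≠ p t ∨
      ((v (p s) : M2) (a s) (b t) - (1 : M2) (a s) (b t) = 0))
    (hne : ∀ s, (v (p s) : M2) (a s) (b s) - (1 : M2) (a s) (b s) ≠ 0) : False := by
  classical
  set A := ((bd v * pm 1 : GLm) : Matrix (Fin m ⊕ Fin m) (Fin m ⊕ Fin m) F) - 1 with hA
  have e : A.submatrix (fun s => idx (p s) (a s)) (fun s => idx (p s) (b s)) =
      diagonal fun s => (v (p s) : M2) (a s) (b s) - (1 : M2) (a s) (b s) := by
    ext s t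
    rw [Matrix.submatrix_apply, hA, Matrix.sub_apply, entry, Perm.one_apply, Matrix.one_apply, Matrix.diagonal_apply]
    by_cases hst : s = t
    · subst hst; simp [Matrix.one_apply, idx_inj]
    · rw [if_neg hst]
      rcases hd s t hst with h | h
      · simp [h, idx_inj]
      · by_cases hp : p s = p t
        · rw [if_pos hp]
          simpa [Matrix.one_apply, idx_inj, hp] using h
        · simp [hp, idx_inj]
  have h3 := (A.rank_submatrix_le (fun s => idx (p s) (a s)) (fun s => idx (p s) (b s))).trans hr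
  rw [e, Matrix.rank_of_isUnit _ (Matrix.isUnit_diagonal.mpr (Pi.isUnit_iff.mpr fun s => (hne s).isUnit)),
    Fintype.card_fin] at h3
  omega

theorem card_supp (h2 : (2 : F) ≠ 0) {v : Fin m → GL2} {σ : Perm (Fin m)}
    (hinv : (bd v * pm σ : GLm) * (bd v * pm σ) = 1)
    (hr : (((bd v * pm σ : GLm) : Matrix (Fin m ⊕ Fin m) (Fin m ⊕ Fin m) F) - 1).rank ≤ 2) :
    (supp v σ).card ≤ 2 := by
  classical
  obtain ⟨hσ, -⟩ := involution_data hinv
  unfold supp
  split_ifs with h1
  · subst h1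
    by_contra hc
    obtain ⟨x, hx, y, hy, z, hz, hxy, hxz, hyz⟩ := Finset.two_lt_card.mp (not_le.mp hc)
    simp only [Finset.mem_filter, Finset.mem_univ, true_and] at hx hy hz
    obtain ⟨a1, b1, e1⟩ := exists_entry_ne hx
    obtain ⟨a2, b2, e2⟩ := exists_entry_ne hy
    obtain ⟨a3, b3, e3⟩ := exists_entry_ne hz
    refine not_three hr (p := ![x, y, z]) (a := ![a1, a2, a3]) (b := ![b1, b2, b3])
      (fun s t hst => Or.inl ?_) (fun s => by fin_cases s <;> assumption)
    fin_cases s <;> fin_cases t <;> simp_all [Ne.symm hxy, Ne.symm hxz, Ne.symm hyz]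
  · by_contra hc
    obtain ⟨j₁, hj₁⟩ : σ.support.Nonempty := Finset.card_pos.mp (by omega)
    obtain ⟨j₂, hj₂, hne⟩ : ∃ j₂ ∈ σ.support, j₂ ∉ ({j₁, σ j₁} : Finset (Fin m)) := by
      by_contra hall
      push Not at hall
      have := (Finset.card_le_card hall).trans Finset.card_le_two
      omega
    simp only [Finset.mem_insert, Finset.mem_singleton, not_or] at hne
    rw [Perm.mem_support] at hj₁ hj₂
    have hσσ : ∀ i, σ (σ i) = i := fun i => by rw [← Perm.mul_apply, hσ, Perm.one_apply]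
    set p : Fin 2 → Fin m := ![j₁, j₂]
    have hp : ∀ s t, p s ≠ σ (p t) := by
      intro s t
      fin_cases s <;> fin_cases t
      · exact Ne.symm hj₁
      · exact fun e => hne.2 (by rw [show j₁ = σ j₂ from e, hσσ])
      · exact fun e => hne.2 e
      · exact Ne.symm hj₂
    have hpi : Function.Injective p := by
      intro s t h
      fin_cases s <;> fin_cases t <;> first | rfl | exact absurd h (Ne.symm hne.1) | exact absurd h hne.1
    set A := ((bd v * pm σ : GLm) : Matrix (Fin m ⊕ Fin m) (Fin m ⊕ Fin m) F) - 1 with hA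
    have e : A.submatrix (fun s : Fin 2 × Fin 2 => idx (p s.1) s.2) (fun s : Fin 2 × Fin 2 => idx (p s.1) s.2) =
        diagonal fun _ => (-1 : F) := by
      ext ⟨s, a⟩ ⟨t, b⟩
      rw [Matrix.submatrix_apply, hA, Matrix.sub_apply, entry, if_neg (hp s t), zero_sub, Matrix.one_apply,
        Matrix.diagonal_apply]
      simp only [idx_inj, hpi.eq_iff, Prod.mk.injEq]
      split_ifs <;> simp_all
    have h3 := (A.rank_submatrix_le (fun s : Fin 2 × Fin 2 => idx (p s.1) s.2)
      (fun s : Fin 2 × Fin 2 => idx (p s.1) s.2)).trans hr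
    rw [e, Matrix.rank_of_isUnit _ (Matrix.isUnit_diagonal.mpr (Pi.isUnit_iff.mpr fun s =>
      isUnit_one.neg)), Fintype.card_prod, Fintype.card_fin] at h3
    omega

theorem sylow_transitive {k : ℕ} (hm : m = 2 ^ k) (W : Sylow 2 (Perm (Fin m))) (i j : Fin m) :
    ∃ τ ∈ (W : Subgroup (Perm (Fin m))), τ i = j := by
  haveI : Fact (Nat.Prime 2) := ⟨Nat.prime_two⟩
  set S := MulAction.stabilizer (Perm (Fin m)) i with hS
  have hSi : S.index = m := by
    rw [hS, MulAction.index_stabilizer_of_transitive, Nat.card_fin]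
  set Ws := (W : Subgroup (Perm (Fin m)))
  have hrel : S.relIndex Ws = (MulAction.orbit Ws i).ncard := by
    rw [← MulAction.index_stabilizer]; rfl
  have hdvd : m ∣ S.relIndex Ws * Ws.index := by
    rw [← Subgroup.inf_relIndex_right S Ws, Subgroup.relIndex_mul_index inf_le_right]
    calc m = S.index := hSi.symm
      _ ∣ (S ⊓ Ws).index := Subgroup.index_dvd_of_le inf_le_left
  have hco : Nat.Coprime m Ws.index := by
    have h := Nat.Coprime.pow_left k ((Nat.prime_two.coprime_iff_not_dvd).mpr W.not_dvd_index)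
    rwa [← hm] at h
  have hge : m ≤ (MulAction.orbit Ws i).ncard := hrel ▸
    Nat.le_of_dvd (Nat.pos_of_ne_zero Subgroup.index_ne_zero_of_finite) (hco.dvd_of_dvd_mul_right hdvd)
  have htop : MulAction.orbit Ws i = Set.univ := Set.eq_of_subset_of_ncard_le (Set.subset_univ _)
    (by rw [Set.ncard_univ, Nat.card_fin]; exact hge)
  obtain ⟨τ, hτ⟩ : j ∈ MulAction.orbit Ws i := htop ▸ Set.mem_univ j
  exact ⟨τ, τ.2, hτ⟩

/-- What is needed from the group `Γ` on one plane and its 2-subgroup `R`. -/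
structure PlaneData (Γ R : Subgroup (GL (Fin 2) F)) : Prop where
  two : IsPGroup 2 R
  neg_mem : (-1 : GL (Fin 2) F) ∈ R
  noncomm : ∃ A B : GL (Fin 2) F, A ∈ R ∧ B ∈ R ∧ GeneralLinearGroup.det A = 1 ∧ GeneralLinearGroup.det B = 1 ∧
    A * B ≠ B * A
  maxi : ∀ x ∈ Γ, x ∈ Subgroup.normalizer (R : Set (GL (Fin 2) F)) → (∃ t, x ^ 2 ^ t = 1) → x ∈ R
  scalar : ∀ x ∈ Γ, x ∈ Subgroup.normalizer (R : Set (GL (Fin 2) F)) → ∃ (t : ℕ) (μ : Fˣ), x ^ 2 ^ t = GLTwoNorm.sc μ

section Main

variable (ho : Odd (Fintype.card F)) {k : ℕ} (hm : m = 2 ^ k)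
variable (R : Subgroup (GL (Fin 2) F)) (W : Sylow 2 (Perm (Fin m)))
variable {Γ : Subgroup (GL (Fin 2) F)}

/-- The wreath product. -/
abbrev Pw : Subgroup (GL (Fin m ⊕ Fin m) F) := wreath bd pm R (W : Subgroup (Perm (Fin m)))

/-- Its part of determinant one. -/
abbrev P1 : Subgroup (GL (Fin m ⊕ Fin m) F) :=
  Pw R W ⊓ (GeneralLinearGroup.det : GL (Fin m ⊕ Fin m) F →* Fˣ).ker

theorem bd_mem {v : Fin m → GL2} (hv : ∀ i, v i ∈ R) : bd v ∈ Pw R W :=
  Subgroup.mem_sup_left ⟨v, fun i _ => hv i, rfl⟩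

theorem pm_mem {σ : Perm (Fin m)} (hσ : σ ∈ (W : Subgroup (Perm (Fin m)))) : (pm σ : GLm) ∈ P1 R W :=
  ⟨Subgroup.mem_sup_right ⟨σ, hσ, rfl⟩, det_pm σ⟩

theorem of_mem {v : Fin m → GL2} {σ : Perm (Fin m)} (h : (bd v * pm σ : GLm) ∈ Pw R W) :
    (∀ i, v i ∈ R) ∧ σ ∈ (W : Subgroup (Perm (Fin m))) := by
  obtain ⟨v', hv', σ', hσ', e⟩ := exists_of_mem bd pm pm_conj _ _ h
  obtain ⟨rfl, rfl⟩ := decomp_inj e
  exact ⟨hv', hσ'⟩

theorem det_zz (i : Fin m) : GeneralLinearGroup.det (zz i : GLm) = 1 := by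
  rw [zz, BlockDiag.det_single]
  refine Units.ext ?_
  rw [GeneralLinearGroup.val_det_apply, Units.val_neg, Units.val_one, Matrix.det_fin_two]
  simp

theorem zz_mem (pd : PlaneData Γ R) (i : Fin m) : (zz i : GLm) ∈ P1 R W :=
  ⟨bd_mem R W fun j => by
    by_cases h : j = i
    · subst h; simpa using pd.neg_mem
    · simp [h], det_zz i⟩

/-- Elements of the wreath product permute the `zz`. -/
theorem conj_zz {h : GLm} (hh : h ∈ Pw R W) (i : Fin m) : ∃ j, h * zz i * h⁻¹ = zz j := by
  obtain ⟨v, -, τ, -, rfl⟩ := exists_of_mem bd pm pm_conj _ _ hh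
  refine ⟨τ i, ?_⟩
  rw [zz, _root_.mul_inv_rev, show (bd v : GLm) * pm τ * bd (Pi.mulSingle i (-1 : GL2)) * ((pm τ)⁻¹ * (bd v)⁻¹) =
    bd v * (pm τ * bd (Pi.mulSingle i (-1 : GL2)) * (pm τ)⁻¹) * (bd v)⁻¹ by group, pm_conj, ← map_inv, ← map_mul,
    ← map_mul, zz]
  congr 1
  funext l
  by_cases h : l = τ i
  · subst h; simp
  · have : τ.symm l ≠ i := fun e => h (by rw [← e]; simp)
    simp [h, this]

include ho hm in
/-- An involution of small rank with few conjugates is one of the `zz`. -/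
theorem eq_zz (pd : PlaneData Γ R) {y : GLm} (hy : y ∈ P1 R W) (hy2 : y * y = 1) (hy1 : y ≠ 1)
    (hr : ((y : Matrix (Fin m ⊕ Fin m) (Fin m ⊕ Fin m) F) - 1).rank ≤ 2)
    (hclass : ∀ C : Finset GLm, (∀ c ∈ C, ∃ h ∈ P1 R W, c = h * y * h⁻¹) → C.card ≤ m) :
    ∃ j, y = zz j := by
  classical
  haveI : Fintype GL2 := Fintype.ofFinite _
  have h2 : (2 : F) ≠ 0 := BlockDiag.odd_ne_two ho
  obtain ⟨v, hv, σ, hσW, rfl⟩ := exists_of_mem bd pm pm_conj _ _ hy.1
  by_contra hne
  obtain ⟨hσ2, hv2⟩ := involution_data hy2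
  set C : Finset ((Fin m → GL2) × Perm (Fin m)) :=
    Finset.univ.filter fun c => ∃ h ∈ P1 R W, (bd c.1 * pm c.2 : GLm) = h * (bd v * pm σ) * h⁻¹ with hC
  have hCm : C.card ≤ m := by
    refine le_of_eq_of_le (Finset.card_image_of_injective C (f := fun c => (bd c.1 * pm c.2 : GLm))
      fun c d h => Prod.ext (decomp_inj h).1 (decomp_inj h).2).symm (hclass _ fun c hc => ?_)
    obtain ⟨d, hd, rfl⟩ := Finset.mem_image.mp hc
    exact (Finset.mem_filter.mp hd).2
  have hsupp : ∀ c ∈ C, (supp c.1 c.2).card ≤ 2 := by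
    intro c hc
    obtain ⟨h, -, e⟩ := (Finset.mem_filter.mp hc).2
    refine card_supp h2 ?_ ?_
    · rw [e, show h * (bd v * pm σ) * h⁻¹ * (h * (bd v * pm σ) * h⁻¹) =
        h * ((bd v * pm σ) * (bd v * pm σ)) * h⁻¹ by group, hy2, mul_one, mul_inv_cancel]
    · rw [e]; exact (rank_conj h _).trans hr
  -- a plane supported by three conjugates
  obtain ⟨A, B, haR, hbR, hdA, hdB, hAB⟩ := pd.noncomm
  have hmem : ∀ u : Fin m → GL2, (∀ i, u i ∈ R) → (∀ i, GeneralLinearGroup.det (u i) = 1) →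
      (fun i => u i * v i * (u (σ⁻¹ i))⁻¹, σ) ∈ C := by
    intro u hu hud
    refine Finset.mem_filter.mpr ⟨Finset.mem_univ _, bd u, ⟨bd_mem R W hu, ?_⟩, (conj_bd u v σ).symm⟩
    show GeneralLinearGroup.det (bd u) = 1
    rw [det_bd, Finset.prod_eq_one fun i _ => hud i]
  have hsingle : ∀ (j : Fin m) (u : GL2), u ∈ R → GeneralLinearGroup.det u = 1 →
      (∀ i, (Pi.mulSingle j u : Fin m → GL2) i ∈ R) ∧
      ∀ i, GeneralLinearGroup.det ((Pi.mulSingle j u : Fin m → GL2) i) = 1 := by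
    intro j u hu hd
    constructor <;> intro i <;> by_cases h : i = j
    · subst h; simpa using hu
    · simp [h]
    · subst h; simpa using hd
    · simp [h]
  obtain ⟨j, hj⟩ : ∃ j, 3 ≤ (C.filter fun c => j ∈ supp c.1 c.2).card := by
    by_cases hσ : σ = 1
    · subst hσ
      obtain ⟨j, hj⟩ : ∃ j, v j ≠ 1 := by
        by_contra h
        push Not at h
        exact hy1 (by rw [show v = 1 from funext h, map_one, map_one, one_mul])
      have hvv : ∀ i, v i * v i = 1 := fun i => by simpa using hv2 i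
      have hns : ∀ i, v i ≠ 1 → v i ≠ -1 → ∃ u ∈ ({A, B} : Set GL2), u * v i * u⁻¹ ≠ v i := by
        intro i h1 hneg
        by_contra hall
        push Not at hall
        have hc : ∀ u ∈ ({A, B} : Set GL2), (u : M2) * (v i : M2) = (v i : M2) * (u : M2) := fun u hu => by
          rw [← Units.val_mul, ← Units.val_mul, mul_inv_eq_iff_eq_mul.mp (hall u hu)]
        refine hAB (Units.ext (GLTwoNorm.commute_of_commute ?_ (hc A (Or.inl rfl)) (hc B (Or.inr rfl))))
        by_contra hsc
        push Not at hsc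
        obtain ⟨e1, e2, e3⟩ := hsc
        have e4 : (v i : M2) 0 0 * (v i : M2) 0 0 = 1 := by
          have := congrArg (fun M : GL2 => (M : M2) 0 0) (hvv i)
          simpa [Matrix.mul_apply, Fin.sum_univ_two, e1, e2] using this
        rcases mul_self_eq_one_iff.mp e4 with h | h
        · refine h1 (Units.ext (Matrix.ext fun r s => ?_))
          fin_cases r <;> fin_cases s <;> simp [e1, e2, ← e3, h]
        · refine hneg (Units.ext (Matrix.ext fun r s => ?_))
          fin_cases r <;> fin_cases s <;> simp [e1, e2, ← e3, h]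
      obtain ⟨l, hlj, hl⟩ : ∃ l, l ≠ j ∧ v l ≠ 1 := by
        by_contra h
        push Not at h
        refine hne ⟨j, ?_⟩
        have hd : GeneralLinearGroup.det (v j) = 1 := by
          have : GeneralLinearGroup.det (bd v * pm 1 : GLm) = 1 := hy.2
          rw [map_mul, det_pm, mul_one, det_bd, Finset.prod_eq_single j
            (fun i _ hi => by rw [h i hi, map_one]) (by simp)] at this
          exact this
        have hvj : v j = -1 := GLTwoNorm.eq_neg_one h2 hd (hvv j) hj
        rw [map_one, mul_one, zz]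
        congr 1
        funext i
        by_cases hi : i = j
        · subst hi; simp [hvj]
        · simp [hi, h i hi]
      have hneg : ∀ {i i' : Fin m}, i ≠ i' → v i' ≠ 1 → v i ≠ -1 := by
        intro i i' hii hi' hi
        obtain ⟨a', b', e'⟩ := exists_entry_ne hi'
        have hm2 : ∀ c : Fin 2, (v i : M2) c c - (1 : M2) c c ≠ 0 := fun c => by
          rw [hi]
          intro h
          apply h2
          simp at h
          linear_combination -h
        refine not_three hr (p := ![i, i, i']) (a := ![0, 1, a']) (b := ![0, 1, b']) ?_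
          (fun s => by fin_cases s; exacts [hm2 0, hm2 1, e'])
        intro s t hst
        fin_cases s <;> fin_cases t <;>
          first
            | exact absurd rfl hst
            | exact Or.inl hii
            | exact Or.inl hii.symm
            | (right; simp [hi, Matrix.one_apply, Matrix.cons_val_zero, Matrix.cons_val_one, Fin.ext_iff])
      simp only [inv_one, Perm.one_apply] at hmem
      obtain ⟨u, hu, hu'⟩ := hns j hj (hneg hlj.symm hl)
      obtain ⟨w, hw, hw'⟩ := hns l hl (hneg hlj hj)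
      have hRd : ∀ x ∈ ({A, B} : Set GL2), x ∈ R ∧ GeneralLinearGroup.det x = 1 := by
        rintro x (rfl | rfl)
        exacts [⟨haR, hdA⟩, ⟨hbR, hdB⟩]
      set c0 : (Fin m → GL2) × Perm (Fin m) := (fun i => (1 : Fin m → GL2) i * v i * ((1 : Fin m → GL2) i)⁻¹, 1)
      set c1 : (Fin m → GL2) × Perm (Fin m) := (fun i => (Pi.mulSingle j u : Fin m → GL2) i * v i *
        ((Pi.mulSingle j u : Fin m → GL2) i)⁻¹, 1)
      set c2 : (Fin m → GL2) × Perm (Fin m) := (fun i => (Pi.mulSingle l w : Fin m → GL2) i * v i *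
        ((Pi.mulSingle l w : Fin m → GL2) i)⁻¹, 1)
      have h01 : c0 ≠ c1 := fun h => hu' (by
        have := congrFun (congrArg Prod.fst h) j; simpa [c0, c1] using this.symm)
      have h02 : c0 ≠ c2 := fun h => hw' (by
        have := congrFun (congrArg Prod.fst h) l; simpa [c0, c2] using this.symm)
      have h12 : c1 ≠ c2 := fun h => hu' (by
        have := congrFun (congrArg Prod.fst h) j; simpa [c1, c2, hlj.symm] using this)
      refine ⟨j, (Finset.card_eq_three.mpr ⟨c0, c1, c2, h01, h02, h12, rfl⟩).ge.trans (Finset.card_le_card ?_)⟩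
      intro c hc
      simp only [Finset.mem_insert, Finset.mem_singleton] at hc
      rw [Finset.mem_filter]
      rcases hc with rfl | rfl | rfl
      · exact ⟨hmem 1 (fun i => one_mem _) (fun i => map_one _), by simp [supp, c0, hj]⟩
      · exact ⟨hmem _ (hsingle j u (hRd u hu).1 (hRd u hu).2).1 (hsingle j u (hRd u hu).1 (hRd u hu).2).2,
          by simp [supp, c1, hj]⟩
      · exact ⟨hmem _ (hsingle l w (hRd w hw).1 (hRd w hw).2).1 (hsingle l w (hRd w hw).1 (hRd w hw).2).2,
          by simp [supp, c2, hj, hlj.symm]⟩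
    · obtain ⟨j, hj⟩ : σ.support.Nonempty := by
        rw [Finset.nonempty_iff_ne_empty, Ne, Perm.support_eq_empty_iff]; exact hσ
      have hj' : σ⁻¹ j ≠ j := fun e => (Perm.mem_support.mp hj) (by
        conv_lhs => rw [← e]
        simp)
      let cu : GL2 → (Fin m → GL2) × Perm (Fin m) := fun u => (fun i => (Pi.mulSingle j u : Fin m → GL2) i * v i *
        ((Pi.mulSingle j u : Fin m → GL2) (σ⁻¹ i))⁻¹, σ)
      have hcu : Function.Injective cu := fun u u' h => by
        have := congrFun (congrArg Prod.fst h) j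
        have hj'' : σ.symm j ≠ j := hj'
        simpa [cu, hj''] using this
      have hA1 : A ≠ 1 := fun h => hAB (by rw [h, one_mul, mul_one])
      have hB1 : B ≠ 1 := fun h => hAB (by rw [h, one_mul, mul_one])
      have hABne : A ≠ B := fun h => hAB (by rw [h])
      refine ⟨j, ((Finset.card_eq_three.mpr ⟨1, A, B, hA1.symm, hB1.symm, hABne, rfl⟩).ge.trans
        (Finset.card_image_of_injective _ hcu).ge).trans (Finset.card_le_card ?_)⟩
      intro c hc
      obtain ⟨u, hu, rfl⟩ := Finset.mem_image.mp hc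
      have hu' : u ∈ R ∧ GeneralLinearGroup.det u = 1 := by
        simp only [Finset.mem_insert, Finset.mem_singleton] at hu
        rcases hu with rfl | rfl | rfl
        exacts [⟨one_mem _, map_one _⟩, ⟨haR, hdA⟩, ⟨hbR, hdB⟩]
      exact Finset.mem_filter.mpr ⟨hmem _ (hsingle j u hu'.1 hu'.2).1 (hsingle j u hu'.1 hu'.2).2,
        by simp only [supp, cu, if_neg hσ]; exact hj⟩
  -- every plane is supported by three conjugates
  have hall : ∀ p, 3 ≤ (C.filter fun c => p ∈ supp c.1 c.2).card := by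
    intro p
    obtain ⟨τ, hτ, hτj⟩ := sylow_transitive hm W j p
    refine hj.trans (Finset.card_le_card_of_injOn (fun c => (fun i => c.1 (τ⁻¹ i), τ * c.2 * τ⁻¹))
      (fun c hc => ?_) fun c _ d _ h => ?_)
    · simp only [Finset.coe_filter, Set.mem_setOf_eq] at hc ⊢
      obtain ⟨hcC, hcs⟩ := hc
      obtain ⟨h, hh, e⟩ := (Finset.mem_filter.mp hcC).2
      refine ⟨Finset.mem_filter.mpr ⟨Finset.mem_univ _, pm τ * h, mul_mem (pm_mem R W hτ) hh, ?_⟩, ?_⟩
      · rw [← conj_pm, e]; group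
      · have hc1 : τ * c.2 * τ⁻¹ = 1 ↔ c.2 = 1 := by rw [mul_inv_eq_one, mul_eq_left]
        by_cases hc2 : c.2 = 1
        · rw [supp, if_pos (hc1.mpr hc2)]
          rw [supp, if_pos hc2] at hcs
          simp only [Finset.mem_filter, Finset.mem_univ, true_and] at hcs ⊢
          rwa [← hτj, Perm.inv_def, Equiv.symm_apply_apply]
        · rw [supp, if_neg (fun h => hc2 (hc1.mp h))]
          rw [supp, if_neg hc2, Perm.mem_support] at hcs
          rw [Perm.mem_support, ← hτj]
          simpa using hcs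
    · have h1 := congrArg Prod.fst h
      have h2 := congrArg Prod.snd h
      refine Prod.ext (funext fun i => ?_) (mul_left_cancel (mul_right_cancel h2))
      simpa using congrFun h1 (τ i)
  have hsum : ∑ p : Fin m, (C.filter fun c => p ∈ supp c.1 c.2).card = ∑ c ∈ C, (supp c.1 c.2).card := by
    simp only [Finset.card_filter]
    rw [Finset.sum_comm]
    exact Finset.sum_congr rfl fun c _ => by simp
  have h3 := Finset.sum_le_sum fun (p : Fin m) (_ : p ∈ Finset.univ) => hall p
  rw [hsum, Finset.sum_const, Finset.card_fin, smul_eq_mul] at h3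
  have h4 := Finset.sum_le_card_nsmul C (fun c => (supp c.1 c.2).card) 2 hsupp
  rw [smul_eq_mul] at h4
  have : 0 < m := hm ▸ Nat.two_pow_pos k
  omega

/-- A matrix commuting with all `zz` is block diagonal. -/
theorem eq_bd_of_commute (h2 : (2 : F) ≠ 0) {g : GLm} (hg : ∀ i, Commute g (zz i)) : ∃ X, g = bd X := by
  have off : ∀ {g : GLm}, (∀ i, Commute g (zz i)) → ∀ (k l : Fin m) (a b : Fin 2), k ≠ l →
      (g : Matrix (Fin m ⊕ Fin m) (Fin m ⊕ Fin m) F) (idx k a) (idx l b) = 0 := by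
    intro g hg k l a b hkl
    have he : ∀ (k : Fin m) (a : Fin 2), Sum.elim id id (idx k a) = k := fun k a => by fin_cases a <;> rfl
    have h := congrArg (fun x : GLm => (x : Matrix (Fin m ⊕ Fin m) (Fin m ⊕ Fin m) F) (idx k a) (idx l b)) (hg l).eq
    simp only [Units.val_mul, coe_zz, Matrix.mul_diagonal, Matrix.diagonal_mul, he, if_pos, if_neg hkl] at h
    exact mul_left_cancel₀ h2 (by linear_combination -h)
  have blk : ∀ {g : GLm}, (∀ i, Commute g (zz i)) → (g : Matrix (Fin m ⊕ Fin m) (Fin m ⊕ Fin m) F) =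
      bdM fun k => Matrix.of fun a b => (g : Matrix (Fin m ⊕ Fin m) (Fin m ⊕ Fin m) F) (idx k a) (idx k b) := by
    intro g hg
    ext (k | k) (l | l) <;> by_cases hkl : k = l
    all_goals first
      | (subst hkl; simp [bdM, idx]; done)
      | (simp [bdM, hkl]; first
          | exact off hg k l 0 0 hkl
          | exact off hg k l 0 1 hkl
          | exact off hg k l 1 0 hkl
          | exact off hg k l 1 1 hkl)
  have hg' : ∀ i, Commute g⁻¹ (zz i) := fun i => (hg i).inv_left
  have inj : ∀ {X Y : Fin m → M2}, bdM X = bdM Y → X = Y := by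
    intro X Y h
    simp only [bdM, MonoidHom.coe_mk, OneHom.coe_mk] at h
    obtain ⟨a, b, c, d⟩ := fromBlocks_inj.mp h
    funext k
    ext r s
    fin_cases r <;> fin_cases s
    exacts [congrFun (diagonal_injective a) k, congrFun (diagonal_injective b) k,
      congrFun (diagonal_injective c) k, congrFun (diagonal_injective d) k]
  set X := fun k => Matrix.of fun a b => (g : Matrix (Fin m ⊕ Fin m) (Fin m ⊕ Fin m) F) (idx k a) (idx k b) with hX
  set Y := fun k => Matrix.of fun a b =>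
    ((g⁻¹ : GLm) : Matrix (Fin m ⊕ Fin m) (Fin m ⊕ Fin m) F) (idx k a) (idx k b) with hY
  have h1 : X * Y = 1 := inj (by rw [map_mul, map_one, ← blk hg, ← blk hg', ← Units.val_mul, mul_inv_cancel, Units.val_one])
  have h1' : Y * X = 1 := inj (by rw [map_mul, map_one, ← blk hg, ← blk hg', ← Units.val_mul, inv_mul_cancel, Units.val_one])
  refine ⟨fun k => ⟨X k, Y k, congrFun h1 k, congrFun h1' k⟩, Units.ext ?_⟩
  rw [coe_bd]
  exact blk hg

include ho hm in
/-- An element of determinant one normalizing `P₁` has a decomposition with permutation part in `W`,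
and the block part has a 2-power equal to one. -/
theorem normalizer_data (pd : PlaneData Γ R) (hk : 1 ≤ k) {g : GLm}
    (hg : g ∈ Subgroup.normalizer ((P1 R W : Subgroup GLm) : Set GLm)) (hgd : GeneralLinearGroup.det g = 1)
    (hgΓ : ∀ (X : Fin m → GL2) (σ : Perm (Fin m)), g = bd X * pm σ → ∀ i, X i ∈ Γ) :
    g ∈ P1 R W := by
  classical
  haveI : Fact (Nat.Prime 2) := ⟨Nat.prime_two⟩
  have h2 : (2 : F) ≠ 0 := BlockDiag.odd_ne_two ho
  have hm2 : 2 ≤ m := hm ▸ le_trans (by norm_num) (Nat.pow_le_pow_right two_pos hk)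
  have hzz1 : ∀ i, (zz i : GLm) * zz i = 1 := fun i => by
    rw [zz, ← map_mul, ← Pi.mulSingle_mul, neg_mul_neg, one_mul, Pi.mulSingle_one, map_one]
  have hzne : ∀ i, (zz i : GLm) ≠ 1 := fun i h => by
    have := congrArg (fun x : GLm => (x : Matrix (Fin m ⊕ Fin m) (Fin m ⊕ Fin m) F) (idx i 0) (idx i 0)) h
    simp [coe_zz, idx] at this
    exact h2 (by linear_combination -this)
  have key : ∀ i, ∃ j, g * zz i * g⁻¹ = zz j := by
    intro i
    refine eq_zz ho hm R W pd ((Subgroup.mem_normalizer_iff.mp hg _).mp (zz_mem R W pd i)) ?_ ?_ ?_ ?_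
    · rw [show g * zz i * g⁻¹ * (g * zz i * g⁻¹) = g * (zz i * zz i) * g⁻¹ by group, hzz1, mul_one, mul_inv_cancel]
    · exact fun h => hzne i (conj_eq_one_iff.mp h)
    · exact (rank_conj g _).trans (rank_zz i)
    · intro C hC
      refine le_trans (Finset.card_le_card (t := Finset.univ.image fun j => g * zz j * g⁻¹) fun c hc => ?_)
        (Finset.card_image_le.trans (Finset.card_fin m).le)
      obtain ⟨h, hh, rfl⟩ := hC c hc
      obtain ⟨j, hj⟩ := conj_zz R W ((Subgroup.mem_normalizer_iff''.mp hg h).mp hh).1 i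
      refine Finset.mem_image.mpr ⟨j, Finset.mem_univ _, ?_⟩
      rw [← hj]; group
  choose ρ hρ using key
  have hzinj : Function.Injective (zz : Fin m → GLm) := by
    intro i j h
    by_contra hne
    have := congrArg (fun x : GLm => (x : Matrix (Fin m ⊕ Fin m) (Fin m ⊕ Fin m) F) (idx i 0) (idx i 0)) h
    simp [coe_zz, idx, hne] at this
    exact h2 (by linear_combination -this)
  have hρinj : Function.Injective ρ := fun i j h => hzinj (by
    have := (hρ i).trans ((congrArg zz h).trans (hρ j).symm)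
    simpa using this)
  set ρ' : Perm (Fin m) := Equiv.ofBijective ρ (Finite.injective_iff_bijective.mp hρinj) with hρ'
  obtain ⟨X, hX⟩ : ∃ X, g * (pm ρ' : GLm)⁻¹ = bd X := by
    refine eq_bd_of_commute h2 fun i => ?_
    obtain ⟨i, rfl⟩ := ρ'.surjective i
    have hp : (pm ρ' : GLm) * zz i * (pm ρ')⁻¹ = zz (ρ' i) := by
      rw [zz, pm_conj, zz]
      congr 1
      funext l
      by_cases h : l = ρ' i
      · subst h; simp
      · have : ρ'.symm l ≠ i := fun e => h (by rw [← e]; simp)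
        simp [h, this]
    show g * (pm ρ')⁻¹ * zz (ρ' i) = zz (ρ' i) * (g * (pm ρ')⁻¹)
    conv_rhs => rw [show zz (ρ' i) = g * zz i * g⁻¹ from (hρ i).symm]
    rw [← hp]; group
  have hgX : g = bd X * pm ρ' := by rw [← hX, inv_mul_cancel_right]
  -- the permutation part
  have hρW : ρ' ∈ (W : Subgroup (Perm (Fin m))) := by
    refine KnownA.SylowTwo.normalizer_sylow_le m W ?_
    have hfw : ∀ σ ∈ (W : Subgroup (Perm (Fin m))), ρ' * σ * ρ'⁻¹ ∈ (W : Subgroup (Perm (Fin m))) := by
      intro σ hσ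
      have := ((Subgroup.mem_normalizer_iff.mp hg _).mp (pm_mem R W hσ)).1
      rw [hgX, _root_.mul_inv_rev, show bd X * pm ρ' * pm σ * ((pm ρ')⁻¹ * (bd X)⁻¹) =
        bd X * (bd 1 * (pm ρ' * pm σ * (pm ρ')⁻¹)) * (bd X)⁻¹ by rw [map_one, one_mul]; group,
        ← map_inv (pm (F := F)), ← map_mul, ← map_mul, conj_bd] at this
      exact (of_mem R W this).2
    refine Subgroup.mem_normalizer_iff.mpr fun σ => ⟨hfw σ, fun h => ?_⟩
    have hmap : (W : Subgroup (Perm (Fin m))).map (MulAut.conj ρ').toMonoidHom = (W : Subgroup (Perm (Fin m))) :=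
      Subgroup.eq_of_le_of_card_ge (by rintro _ ⟨s, hs, rfl⟩; exact hfw s hs)
        (Nat.card_congr (Subgroup.equivMapOfInjective _ _ (MulEquiv.injective _)).toEquiv).le
    rw [← hmap] at h
    obtain ⟨s, hs, e⟩ := h
    rwa [← (MulAut.conj ρ').injective (show MulAut.conj ρ' s = MulAut.conj ρ' σ from e)]
  rw [show g = bd X * pm ρ' from hgX]
  refine mul_mem ?_ (pm_mem R W hρW)
  have hXN : bd X ∈ Subgroup.normalizer ((P1 R W : Subgroup GLm) : Set GLm) :=
    hX ▸ mul_mem hg (inv_mem (Subgroup.le_normalizer (pm_mem R W hρW)))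
  have hXd : GeneralLinearGroup.det (bd X : GLm) = 1 := by rw [← hX, map_mul, map_inv, det_pm, hgd, inv_one, mul_one]
  -- each block normalizes `R`
  have hXi : ∀ i, X i ∈ Subgroup.normalizer (R : Set GL2) := by
    intro i
    obtain ⟨l, hl⟩ := Fintype.exists_ne_of_one_lt_card (by rw [Fintype.card_fin]; omega) i
    have hfw : ∀ r ∈ R, X i * r * (X i)⁻¹ ∈ R := by
      intro r hr
      have hp : bd (pair i l r) ∈ P1 R W := ⟨bd_mem R W fun t => by
          by_cases h : t = i
          · subst h; rw [BlockDiag.pair_self _ _ hl.symm]; exact hr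
          · by_cases h' : t = l
            · subst h'; rw [BlockDiag.pair_base _ _ hl.symm]; exact inv_mem hr
            · rw [BlockDiag.pair_other _ _ _ h h']; exact one_mem _, det_pair i l r⟩
      have := ((Subgroup.mem_normalizer_iff.mp hXN _).mp hp).1
      rw [← map_inv, ← map_mul, ← map_mul, ← mul_one (bd _), ← map_one (pm (F := F))] at this
      have h := (of_mem R W this).1 i
      rwa [Pi.mul_apply, Pi.mul_apply, BlockDiag.pair_self _ _ hl.symm] at h
    refine Subgroup.mem_normalizer_iff.mpr fun r => ⟨hfw r, fun h => ?_⟩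
    have hmap : R.map (MulAut.conj (X i)).toMonoidHom = R :=
      Subgroup.eq_of_le_of_card_ge (by rintro _ ⟨s, hs, rfl⟩; exact hfw s hs)
        (Nat.card_congr (Subgroup.equivMapOfInjective _ _ (MulEquiv.injective _)).toEquiv).le
    rw [← hmap] at h
    obtain ⟨s, hs, e⟩ := h
    rwa [← (MulAut.conj (X i)).injective (show MulAut.conj (X i) s = MulAut.conj (X i) r from e)]
  choose t μ hμ using fun i => pd.scalar _ (hgΓ X ρ' hgX i) (hXi i)
  set T := ∑ i, t i with hT
  have hXT : ∀ i, ∃ ν : Fˣ, X i ^ 2 ^ T = GLTwoNorm.sc ν := fun i => by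
    obtain ⟨d, hd⟩ := Nat.exists_eq_add_of_le (Finset.single_le_sum (fun j _ => Nat.zero_le (t j)) (Finset.mem_univ i))
    refine ⟨μ i ^ 2 ^ d, ?_⟩
    rw [hT, hd, pow_add, pow_mul, hμ i, map_pow]
  choose ν hν using hXT
  obtain ⟨s, hs⟩ := IsPGroup.iff_card.mp pd.two
  have hG1 : (bd X : GLm) ^ 2 ^ T = bd fun i => GLTwoNorm.sc (ν i) := by
    rw [← map_pow]; exact congrArg bd (funext hν)
  have hconst : ∀ i j, ν i ^ 2 ^ s = ν j ^ 2 ^ s := by
    intro i j
    obtain ⟨σ, hσ, rfl⟩ := sylow_transitive hm W j i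
    have hG1N : (bd X : GLm) ^ 2 ^ T ∈ Subgroup.normalizer ((P1 R W : Subgroup GLm) : Set GLm) := pow_mem hXN _
    have := ((Subgroup.mem_normalizer_iff.mp hG1N _).mp (pm_mem R W hσ)).1
    rw [hG1, show (pm σ : GLm) = bd 1 * pm σ by rw [map_one, one_mul], conj_bd] at this
    have h := (of_mem R W this).1 (σ j)
    rw [Pi.one_apply, mul_one, Perm.inv_def, Equiv.symm_apply_apply, ← map_inv, ← map_mul] at h
    have h' := congrArg Subtype.val (pow_card_eq_one' (x := (⟨_, h⟩ : R)))
    rw [hs, Subgroup.coe_pow, Subgroup.coe_one, ← map_pow, mul_pow, inv_pow] at h'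
    have hsc : Function.Injective (GLTwoNorm.sc (F := F)) := fun x y e => Units.ext (by
      have := congrArg (fun M : GL2 => (M : M2) 0 0) e
      simpa [GLTwoNorm.sc] using this)
    exact mul_inv_eq_one.mp (hsc (h'.trans (map_one _).symm))
  obtain ⟨i₀⟩ : Nonempty (Fin m) := ⟨⟨0, by omega⟩⟩
  have hdet : ν i₀ ^ (2 ^ s * (2 * m)) = 1 := by
    have hd : GeneralLinearGroup.det (((bd X : GLm) ^ 2 ^ T) ^ 2 ^ s) = 1 := by rw [map_pow, map_pow, hXd, one_pow, one_pow]
    rw [hG1, ← map_pow, det_bd] at hd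
    simp only [Pi.pow_apply, ← map_pow, GLTwoNorm.det_sc, hconst _ i₀, Finset.prod_const, Finset.card_fin] at hd
    rw [pow_mul, pow_mul, pow_two]
    exact hd
  have hpow : (bd X : GLm) ^ 2 ^ (T + (s + (1 + k))) = 1 := by
    rw [pow_add 2 T, pow_mul, hG1, ← map_pow, show (fun i => GLTwoNorm.sc (ν i)) ^ 2 ^ (s + (1 + k)) = 1 from ?_,
      map_one]
    funext i
    rw [Pi.pow_apply, ← map_pow, pow_add, pow_mul, hconst i i₀, ← pow_mul, pow_add 2 1 k, pow_one, ← hm, hdet,
      map_one, Pi.one_apply]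
  refine ⟨bd_mem R W fun i => pd.maxi _ (hgΓ X ρ' hgX i) (hXi i) ⟨T + (s + (1 + k)), ?_⟩, hXd⟩
  have h1 : bd (X ^ 2 ^ (T + (s + (1 + k)))) * pm (1 : Perm (Fin m)) = (1 : GLm) := by
    rw [map_pow, hpow, map_one, mul_one]
  exact congrFun (bd_pm_eq_one _ _ h1).1 i

end Main

set_option maxHeartbeats 800000 in
/-- A group of matrices of determinant one on `m` planes containing the wreath product part has pronormal
odd index subgroups, if its monomial elements have their blocks in `Γ`. -/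
theorem allPro (ho : Odd (Fintype.card F)) {k : ℕ} (hk : 1 ≤ k) {Γ R : Subgroup (GL (Fin 2) F)}
    (pd : PlaneData Γ R) (W : Sylow 2 (Perm (Fin (2 ^ k)))) {A : Type*} [Group A] [Finite A]
    (f : A →* GL (Fin (2 ^ k) ⊕ Fin (2 ^ k)) F) (hf : Function.Injective f)
    (hdet : ∀ a, GeneralLinearGroup.det (f a) = 1) (hP : P1 R W ≤ f.range)
    (hblk : ∀ a (X : Fin (2 ^ k) → GL (Fin 2) F) (σ : Perm (Fin (2 ^ k))), f a = bd X * pm σ → ∀ i, X i ∈ Γ) :
    PGroups.Pronormal.AllPro 2 A := by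
  haveI : Fact (Nat.Prime 2) := ⟨Nat.prime_two⟩
  have hpW : IsPGroup 2 (P1 R W) :=
    (WreathSquares.isPGroup_wreath bd pm pm_conj _ _ pd.two W.2).to_le inf_le_left
  set Q := (P1 R W).comap f with hQ
  have hmap : Q.map f = P1 R W := Subgroup.map_comap_eq_self hP
  refine allPro_of_pgroup_self Q (hpW.comap_of_injective f hf) fun x hx => ?_
  have hgN : f x ∈ Subgroup.normalizer ((P1 R W : Subgroup _) : Set (GL (Fin (2 ^ k) ⊕ Fin (2 ^ k)) F)) :=
    hmap ▸ Subgroup.le_normalizer_map _ ⟨x, hx, rfl⟩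
  exact normalizer_data ho rfl R W pd hk hgN (hdet x) (hblk x)

end Cfsg.Agent.Lib.PronormalPSL.Wreath
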